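import Groth.Agent.CohDer.K236.CosyzDim
import Groth.Agent.CohDer.K235.RDPlusUnit

/-!
# Classes adapted to an additive functor

`I` is a class of objects such that every object embeds in an object of `I`, and in a short exact
sequence with first two terms in `I` the third is in `I` and the image by `F` is short exact. Then
objects of `I` are right acyclic for `F`.
-/

set_option autoImplicit false

open CategoryTheory Category Limits ZeroObject

namespace K236.Adapted

universe v u v' u'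

variable {A : Type u} [Category.{v} A] [Abelian A] {B : Type u'} [Category.{v'} B] [Abelian B]

/-- A retract of a short exact sequence is short exact. -/
lemma shortExact_of_retract {S S' : ShortComplex A} (i : S ⟶ S') (r : S' ⟶ S) (h : i ≫ r = 𝟙 S)
    (hS' : S'.ShortExact) : S.ShortExact := by
  have h₁ : i.τ₁ ≫ r.τ₁ = 𝟙 _ := by rw [← ShortComplex.comp_τ₁, h]; rfl
  have h₃ : i.τ₃ ≫ r.τ₃ = 𝟙 _ := by rw [← ShortComplex.comp_τ₃, h]; rfl
  have hf : Mono S.f := by
    have : IsSplitMono i.τ₁ := ⟨⟨r.τ₁, h₁⟩⟩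
    have := hS'.mono_f
    have h' : Mono (S.f ≫ i.τ₂) := by
      rw [← i.comm₁₂]
      exact mono_comp _ _
    exact mono_of_mono S.f i.τ₂
  have hg : Epi S.g := by
    have : IsSplitEpi r.τ₃ := ⟨⟨i.τ₃, h₃⟩⟩
    have := hS'.epi_g
    have h' : Epi (r.τ₂ ≫ S.g) := by
      rw [r.comm₂₃]
      exact epi_comp _ _
    exact epi_of_epi r.τ₂ S.g
  refine { exact := ?_, mono_f := hf, epi_g := hg }
  rw [ShortComplex.exact_iff_isZero_homology]
  have hz := (ShortComplex.exact_iff_isZero_homology S').1 hS'.exact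
  have h₂ : ShortComplex.homologyMap i ≫ ShortComplex.homologyMap r = 𝟙 _ := by
    rw [← ShortComplex.homologyMap_comp, h, ShortComplex.homologyMap_id]
  rw [IsZero.iff_id_eq_zero, ← h₂, hz.eq_of_tgt (ShortComplex.homologyMap i) 0, zero_comp]

/-- `Ret I X`: the object `X` is a retract of an object of `I`. -/
def Ret (I : ObjectProperty A) (X : A) : Prop :=
  ∃ (Y : A) (i : X ⟶ Y) (r : Y ⟶ X), i ≫ r = 𝟙 X ∧ I Y

variable (F : A ⥤ B) [F.Additive] (I : ObjectProperty A)
    (h1 : ∀ X : A, ∃ (Y : A) (ι : X ⟶ Y), I Y ∧ Mono ι)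
    (h2 : ∀ S : ShortComplex A, S.ShortExact → I S.X₁ → I S.X₂ → I S.X₃ ∧ (S.map F).ShortExact)

/-- Given short exact `S`, `S'` and a retraction on the first two terms, extend it. -/
lemma exists_retract {S S' : ShortComplex A} (hS : S.ShortExact) (hS' : S'.ShortExact)
    (i₁ : S.X₁ ⟶ S'.X₁) (i₂ : S.X₂ ⟶ S'.X₂) (r₁ : S'.X₁ ⟶ S.X₁) (r₂ : S'.X₂ ⟶ S.X₂)
    (e₁ : i₁ ≫ r₁ = 𝟙 _) (e₂ : i₂ ≫ r₂ = 𝟙 _) (c : i₁ ≫ S'.f = S.f ≫ i₂)
    (c' : r₁ ≫ S.f = S'.f ≫ r₂) :
    ∃ (i : S ⟶ S') (r : S' ⟶ S), i ≫ r = 𝟙 S := by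
  have := hS.epi_g
  have := hS'.epi_g
  have w : S.f ≫ (i₂ ≫ S'.g) = 0 := by
    rw [← assoc, ← c, assoc, S'.zero, comp_zero]
  have w' : S'.f ≫ (r₂ ≫ S.g) = 0 := by
    rw [← assoc, ← c', assoc, S.zero, comp_zero]
  let i₃ : S.X₃ ⟶ S'.X₃ := hS.gIsCokernel.desc (CokernelCofork.ofπ _ w)
  have hi₃ : S.g ≫ i₃ = i₂ ≫ S'.g :=
    hS.gIsCokernel.fac (CokernelCofork.ofπ _ w) WalkingParallelPair.one
  let r₃ : S'.X₃ ⟶ S.X₃ := hS'.gIsCokernel.desc (CokernelCofork.ofπ _ w')
  have hr₃ : S'.g ≫ r₃ = r₂ ≫ S.g :=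
    hS'.gIsCokernel.fac (CokernelCofork.ofπ _ w') WalkingParallelPair.one
  refine ⟨{ τ₁ := i₁, τ₂ := i₂, τ₃ := i₃, comm₁₂ := c, comm₂₃ := hi₃.symm },
    { τ₁ := r₁, τ₂ := r₂, τ₃ := r₃, comm₁₂ := c', comm₂₃ := hr₃.symm }, ?_⟩
  ext
  · exact e₁
  · exact e₂
  · dsimp
    rw [← cancel_epi S.g, reassoc_of% hi₃, hr₃, reassoc_of% e₂, comp_id]

include h1 h2

lemma claim₁ (S : ShortComplex A) (hS : S.ShortExact) (hX : I S.X₁) (hJ : Injective S.X₂) :
    Ret I S.X₃ ∧ (S.map F).ShortExact := by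
  obtain ⟨Y, j, hY, hj⟩ := h1 S.X₂
  have := hS.mono_f
  let S' : ShortComplex A := ShortComplex.mk (S.f ≫ j) (cokernel.π (S.f ≫ j))
    (cokernel.condition _)
  have hS' : S'.ShortExact := CosyzDim.ses_of_mono (S.f ≫ j)
  obtain ⟨hC, hF⟩ := h2 S' hS' hX hY
  have hr : j ≫ Injective.factorThru (𝟙 _) j = 𝟙 S.X₂ := Injective.comp_factorThru _ _
  obtain ⟨i, r, h⟩ := exists_retract hS hS' (𝟙 _) j (𝟙 _) (Injective.factorThru (𝟙 _) j)
    (comp_id _) hr (id_comp _) (by
      change 𝟙 _ ≫ S.f = (S.f ≫ j) ≫ _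
      rw [id_comp, assoc, hr, comp_id])
  refine ⟨⟨S'.X₃, i.τ₃, r.τ₃, ?_, hC⟩, ?_⟩
  · rw [← ShortComplex.comp_τ₃, h]; rfl
  · refine shortExact_of_retract (F.mapShortComplex.map i) (F.mapShortComplex.map r) ?_ hF
    exact (F.mapShortComplex.map_comp i r).symm.trans
      ((congrArg F.mapShortComplex.map h).trans (F.mapShortComplex.map_id S))

lemma claim₂ [EnoughInjectives A] (S : ShortComplex A) (hS : S.ShortExact) (hX : Ret I S.X₁)
    (hJ : Injective S.X₂) : Ret I S.X₃ ∧ (S.map F).ShortExact := by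
  obtain ⟨X', i, r, hir, hX'⟩ := hX
  have := hS.mono_f
  let J' := Injective.under X'
  let j' : X' ⟶ J' := Injective.ι X'
  let e : S.X₂ ⟶ J' := Injective.factorThru (i ≫ j') S.f
  have he : S.f ≫ e = i ≫ j' := Injective.comp_factorThru _ _
  let f' : X' ⟶ S.X₂ ⊞ J' := biprod.lift (r ≫ S.f) j'
  have hf' : Mono f' := by
    have : Mono (f' ≫ biprod.snd) := by
      rw [biprod.lift_snd]; infer_instance
    exact mono_of_mono f' biprod.snd
  let S' : ShortComplex A := ShortComplex.mk f' (cokernel.π f') (cokernel.condition _)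
  have hS' : S'.ShortExact := CosyzDim.ses_of_mono f'
  obtain ⟨⟨Y, a, b, hab, hY⟩, hF⟩ := claim₁ F I h1 h2 S' hS' hX'
    (inferInstanceAs (Injective (S.X₂ ⊞ J')))
  obtain ⟨i', r', h⟩ := exists_retract hS hS' i (biprod.lift (𝟙 _) e) r biprod.fst
    hir (biprod.lift_fst _ _) (by
      change i ≫ biprod.lift (r ≫ S.f) j' = S.f ≫ biprod.lift (𝟙 _) e
      ext
      · simp [reassoc_of% hir]
      · simp [he]) (by
      change r ≫ S.f = biprod.lift (r ≫ S.f) j' ≫ biprod.fst
      rw [biprod.lift_fst])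
  refine ⟨⟨Y, i'.τ₃ ≫ a, b ≫ r'.τ₃, ?_, hY⟩, ?_⟩
  · rw [assoc, reassoc_of% hab, ← ShortComplex.comp_τ₃, h]; rfl
  · refine shortExact_of_retract (F.mapShortComplex.map i') (F.mapShortComplex.map r') ?_ hF
    exact (F.mapShortComplex.map_comp i' r').symm.trans
      ((congrArg F.mapShortComplex.map h).trans (F.mapShortComplex.map_id S))

omit h1 h2 in
lemma iCycles_toCycles (K : CochainComplex A ℕ) (n : ℕ) :
    K.iCycles n ≫ K.toCycles n (n + 1) = 0 := by
  rw [← cancel_mono (K.iCycles (n + 1)), assoc, K.toCycles_i, K.iCycles_d, zero_comp]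

omit h1 h2 in
/-- The short exact sequences of cycles of a resolution. -/
lemma cycles_ses (K : CochainComplex A ℕ) (n : ℕ)
    (h : (ShortComplex.mk (K.d n (n + 1)) (K.d (n + 1) (n + 2)) (K.d_comp_d _ _ _)).Exact) :
    (ShortComplex.mk (K.iCycles n) (K.toCycles n (n + 1)) (iCycles_toCycles K n)).ShortExact := by
  refine
    { exact := ?_
      mono_f := inferInstanceAs (Mono (K.iCycles n))
      epi_g := ?_ }
  · let φ : ShortComplex.mk (K.iCycles n) (K.toCycles n (n + 1)) (iCycles_toCycles K n) ⟶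
        ShortComplex.mk (K.iCycles n) (K.d n (n + 1)) (K.iCycles_d _ _) :=
      { τ₁ := 𝟙 _, τ₂ := 𝟙 _, τ₃ := K.iCycles (n + 1) }
    have : Epi φ.τ₁ := inferInstanceAs (Epi (𝟙 _))
    have : IsIso φ.τ₂ := inferInstanceAs (IsIso (𝟙 _))
    have : Mono φ.τ₃ := inferInstanceAs (Mono (K.iCycles (n + 1)))
    rw [ShortComplex.exact_iff_of_epi_of_isIso_of_mono φ]
    exact ShortComplex.exact_of_f_is_kernel _ (K.cyclesIsKernel n (n + 1) (by simp))
  · dsimp
    rw [epi_iff_surjective_up_to_refinements]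
    intro T y
    obtain ⟨T', π, hπ, x, hx⟩ := h.exact_up_to_refinements (y ≫ K.iCycles (n + 1)) (by
      change (y ≫ K.iCycles (n + 1)) ≫ K.d (n + 1) (n + 2) = 0
      rw [Category.assoc, K.iCycles_d, comp_zero])
    change T' ⟶ K.X n at x
    change π ≫ y ≫ K.iCycles (n + 1) = x ≫ K.d n (n + 1) at hx
    refine ⟨T', π, hπ, x, ?_⟩
    rw [← cancel_mono (K.iCycles (n + 1)), Category.assoc, hx, Category.assoc, K.toCycles_i]

omit h1 h2 in
lemma next_zero : (ComplexShape.up ℕ).next 0 = 1 := by simp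

/-- The identification of `X` with the cycles in degree `0`. -/
noncomputable def lift {X : A} (R : InjectiveResolution X) : X ⟶ R.cocomplex.cycles 0 :=
  R.cocomplex.liftCycles (R.ι.f 0) 1 next_zero R.ι_f_zero_comp_complex_d

omit h1 h2 in
lemma isIso_lift {X : A} (R : InjectiveResolution X) : IsIso (lift R) := by
  have h : Mono (R.ι.f 0) := inferInstance
  exact (CochainComplex.isIso_liftCycles_iff _ _ _).2 ⟨R.exact₀, h⟩

omit h1 h2 in
lemma lift_i {X : A} (R : InjectiveResolution X) :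
    lift R ≫ R.cocomplex.iCycles 0 = R.ι.f 0 :=
  R.cocomplex.liftCycles_i _ _ _ _

lemma ret_cycles [EnoughInjectives A] {X : A} (hX : I X) (R : InjectiveResolution X) (n : ℕ) :
    Ret I (R.cocomplex.cycles n) := by
  induction n with
  | zero =>
    have h := isIso_lift R
    exact ⟨X, inv (lift R), lift R, IsIso.inv_hom_id _, hX⟩
  | succ n ih =>
    exact (claim₂ F I h1 h2 _ (cycles_ses R.cocomplex n (R.exact_succ n)) ih
      (R.injective n)).1

lemma quasiIso_map [EnoughInjectives A] {X : A} (hX : I X) (R : InjectiveResolution X) :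
    QuasiIso ((F.mapHomologicalComplex (ComplexShape.up ℕ)).map R.ι) := by
  have hses : ∀ n, ((ShortComplex.mk (R.cocomplex.iCycles n) (R.cocomplex.toCycles n (n + 1))
      (iCycles_toCycles R.cocomplex n)).map F).ShortExact := fun n =>
    (claim₂ F I h1 h2 _ (cycles_ses R.cocomplex n (R.exact_succ n))
      (ret_cycles F I h1 h2 hX R n) (R.injective n)).2
  have hmono : ∀ n, Mono (F.map (R.cocomplex.iCycles n)) := fun n => (hses n).mono_f
  have hepi : ∀ n, Epi (F.map (R.cocomplex.toCycles n (n + 1))) := fun n => (hses n).epi_g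
  have hd : ∀ n, F.map (R.cocomplex.d n (n + 1)) =
      F.map (R.cocomplex.toCycles n (n + 1)) ≫ F.map (R.cocomplex.iCycles (n + 1)) := fun n => by
    rw [← F.map_comp, R.cocomplex.toCycles_i]
  have hw : ∀ n, F.map (R.cocomplex.iCycles n) ≫ F.map (R.cocomplex.toCycles n (n + 1)) = 0 :=
    fun n => by rw [← F.map_comp, iCycles_toCycles, F.map_zero]
  rw [quasiIso_iff]
  intro i
  cases i with
  | zero =>
    rw [K235.RDPlusUnit.quasiIsoAt_zero_iff]
    refine (CochainComplex.isIso_liftCycles_iff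
      ((F.mapHomologicalComplex (ComplexShape.up ℕ)).obj R.cocomplex) (F.map (R.ι.f 0))
      (K235.RDPlusUnit.comp_d F R)).2 ?_
    have hl := isIso_lift R
    have e : F.map (R.ι.f 0) = F.map (lift R) ≫ F.map (R.cocomplex.iCycles 0) :=
      (congrArg F.map (lift_i R)).symm.trans (F.map_comp _ _)
    have hl' : IsIso (F.map (lift R)) := by
      have : IsIso (lift R) := hl
      exact Functor.map_isIso F (lift R)
    refine ⟨?_, ?_⟩
    · have h := CosyzDim.exact_aux (f₀ := F.map (lift R)) (f₁ := F.map (R.cocomplex.iCycles 0))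
        (f₂ := F.map (R.cocomplex.toCycles 0 (0 + 1))) (f₃ := F.map (R.cocomplex.iCycles (0 + 1)))
        (hw 0) (hses 0).exact (by rw [assoc, reassoc_of% (hw 0), zero_comp, comp_zero])
      refine ShortComplex.exact_of_iso ?_ h
      refine ShortComplex.isoMk (Iso.refl _) (Iso.refl _) (Iso.refl _) ?_ ?_
      · exact (id_comp _).trans (e.trans (comp_id _).symm)
      · exact (id_comp _).trans ((hd 0).trans (comp_id _).symm)
    · have h : Mono (F.map (lift R) ≫ F.map (R.cocomplex.iCycles 0)) := mono_comp _ _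
      rw [← e] at h
      exact h
  | succ n =>
    have hz : IsZero (((F.mapHomologicalComplex (ComplexShape.up ℕ)).obj
        ((CochainComplex.single₀ A).obj X)).X (n + 1)) :=
      F.map_isZero (HomologicalComplex.isZero_single_obj_X _ _ _ _ (by simp))
    have hex : ((F.mapHomologicalComplex (ComplexShape.up ℕ)).obj
        ((CochainComplex.single₀ A).obj X)).ExactAt (n + 1) :=
      ShortComplex.exact_of_isZero_X₂ _ hz
    rw [quasiIsoAt_iff_exactAt _ _ hex,
      HomologicalComplex.exactAt_iff' _ n (n + 1) (n + 1 + 1) (by simp) (by simp)]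
    have h := CosyzDim.exact_aux (f₀ := F.map (R.cocomplex.toCycles n (n + 1)))
      (f₁ := F.map (R.cocomplex.iCycles (n + 1)))
      (f₂ := F.map (R.cocomplex.toCycles (n + 1) (n + 1 + 1)))
      (f₃ := F.map (R.cocomplex.iCycles (n + 1 + 1)))
      (hw (n + 1)) (hses (n + 1)).exact
      (by rw [assoc, reassoc_of% (hw (n + 1)), zero_comp, comp_zero])
    refine ShortComplex.exact_of_iso ?_ h
    refine ShortComplex.isoMk (Iso.refl _) (Iso.refl _) (Iso.refl _) ?_ ?_
    · exact (id_comp _).trans ((hd n).trans (comp_id _).symm)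
    · exact (id_comp _).trans ((hd (n + 1)).trans (comp_id _).symm)

end K236.Adapted
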