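import Groth.Agent.PCoh.K225.PC2
import Groth.Agent.PerfC.DIndCoprod
import Groth.Agent.Cohder.Compact
import Groth.Agent.CohtopB.DCoprod
import Mathlib.Algebra.Homology.DerivedCategory.TStructure
import Mathlib.CategoryTheory.Abelian.GrothendieckCategory.Basic

/-!
# Compact objects of the derived category of a Grothendieck abelian category

Tools to show that a compact object of `D(A)` is a retract of a bounded complex of finite direct
sums of members of a "compact" generating set.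
-/

set_option autoImplicit false

open CategoryTheory Category Limits ZeroObject

namespace K236.CompRetract

open Groth.Agent.Cohder.Compact

universe w v u

section

variable {D : Type u} [Category.{v} D] [Preadditive D]

/-- A finitely supported morphism is the sum of its components. -/
lemma exists_finset_sum {C : D} {J : Type w} [DecidableEq J] (X : J → D) [HasCoproduct X] (γ : C ⟶ ∐ X)
    (hγ : γ ∈ finSupp C X) :
    ∃ s : Finset J, ∀ t : Finset J, s ⊆ t → γ = ∑ j ∈ t, γ ≫ Sigma.π X j ≫ Sigma.ι X j := by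
  refine finSupp_induction (p := fun γ => ∃ s : Finset J, ∀ t : Finset J, s ⊆ t →
    γ = ∑ j ∈ t, γ ≫ Sigma.π X j ≫ Sigma.ι X j) ?_ ?_ ?_ hγ
  · intro j y
    refine ⟨{j}, fun t ht => ?_⟩
    rw [Finset.sum_eq_single j]
    · rw [assoc, reassoc_of% (Sigma.ι_π_eq_id X j)]
    · intro i _ hij
      rw [assoc, reassoc_of% (Sigma.ι_π_of_ne X (Ne.symm hij)), zero_comp, comp_zero]
    · intro h
      exact (h (ht (Finset.mem_singleton_self j))).elim
  · exact ⟨∅, fun t _ => by simp⟩
  · rintro a b ⟨s, hs⟩ ⟨s', hs'⟩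
    refine ⟨s ∪ s', fun t ht => ?_⟩
    simp only [Preadditive.add_comp, Finset.sum_add_distrib]
    rw [← hs t (Finset.union_subset_left ht), ← hs' t (Finset.union_subset_right ht)]

/-- A finitely supported morphism is killed by morphisms killing finitely many summands. -/
lemma exists_finset {C : D} {J : Type w} (X : J → D) [HasCoproduct X] (γ : C ⟶ ∐ X)
    (hγ : γ ∈ finSupp C X) :
    ∃ s : Finset J, ∀ (Y : D) (g : ∐ X ⟶ Y), (∀ j ∈ s, Sigma.ι X j ≫ g = 0) → γ ≫ g = 0 := by
  classical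
  obtain ⟨s, hs⟩ := exists_finset_sum X γ hγ
  refine ⟨s, fun Y g hg => ?_⟩
  rw [hs s subset_rfl, Preadditive.sum_comp]
  refine Finset.sum_eq_zero fun j hj => ?_
  rw [assoc, assoc, hg j hj, comp_zero, comp_zero]

end

variable {A : Type u} [Category.{v} A] [Abelian A]

section family

variable {P : CochainComplex A ℤ} (R : ℕ → CochainComplex A ℤ) (q : ∀ n, P ⟶ R n)
  (hR : ∀ i : ℤ, ∃ N : ℕ, ∀ n, N ≤ n → IsZero ((R n).X i)) [HasCoproduct R]

/-- The morphism in the coproduct in degree `i`. -/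
noncomputable def sumF (N : ℕ) (i : ℤ) : P.X i ⟶ (∐ R).X i :=
  ∑ n ∈ Finset.range N, (q n).f i ≫ (Sigma.ι R n).f i

lemma sumF_eq (i : ℤ) (N : ℕ) (hN : ∀ n, N ≤ n → IsZero ((R n).X i)) (M : ℕ) (hM : N ≤ M) :
    sumF R q M i = sumF R q N i := by
  unfold sumF
  rw [← Finset.sum_subset (Finset.range_mono hM)]
  intro n _ hn
  rw [(hN n (by simpa using hn)).eq_of_tgt ((q n).f i) 0, zero_comp]

/-- Locally finite families of morphisms factor through the coproduct. -/
noncomputable def toSum : P ⟶ ∐ R where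
  f i := sumF R q (hR i).choose i
  comm' i j hij := by
    let M := max (hR i).choose (hR j).choose
    rw [← sumF_eq R q i _ (hR i).choose_spec M (le_max_left _ _),
      ← sumF_eq R q j _ (hR j).choose_spec M (le_max_right _ _)]
    unfold sumF
    rw [Preadditive.sum_comp, Preadditive.comp_sum]
    refine Finset.sum_congr rfl fun n _ => ?_
    rw [assoc, (Sigma.ι R n).comm, (q n).comm_assoc]

lemma toSum_π (n : ℕ) : toSum R q hR ≫ Sigma.π R n = q n := by
  ext i
  let N := max (hR i).choose (n + 1)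
  have h1 : (toSum R q hR).f i = sumF R q N i :=
    (sumF_eq R q i _ (hR i).choose_spec N (le_max_left _ _)).symm
  rw [HomologicalComplex.comp_f, h1]
  unfold sumF
  rw [Preadditive.sum_comp, Finset.sum_eq_single n]
  · rw [assoc, ← HomologicalComplex.comp_f, Sigma.ι_π_eq_id, HomologicalComplex.id_f, comp_id]
  · intro m _ hm
    rw [assoc, ← HomologicalComplex.comp_f, Sigma.ι_π_of_ne R hm, HomologicalComplex.zero_f,
      comp_zero]
  · intro h
    exact (h (Finset.mem_range.2 (by lia))).elim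

end family

section derived

variable [HasDerivedCategory.{v} A]

/-- Morphisms to `Q.obj S.X₂` killed by `S.g` factor through `S.f`. -/
lemma exists_lift {S : ShortComplex (CochainComplex A ℤ)} (hS : S.ShortExact) {K : DerivedCategory A}
    (κ : K ⟶ DerivedCategory.Q.obj S.X₂) (h : κ ≫ DerivedCategory.Q.map S.g = 0) :
    ∃ κ' : K ⟶ DerivedCategory.Q.obj S.X₁, κ = κ' ≫ DerivedCategory.Q.map S.f :=
  Pretriangulated.Triangle.coyoneda_exact₂ _ (DerivedCategory.triangleOfSES_distinguished hS) κ h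

variable [IsGrothendieckAbelian.{v} A] [HasCoproducts.{v} A] [HasCoproducts.{v} (DerivedCategory A)]

lemma exists_comp_eq_zero {K : DerivedCategory A} (hK : CohDer.IsCompactObject K)
    {P : CochainComplex A ℤ} (κ : K ⟶ DerivedCategory.Q.obj P) (R : ℕ → CochainComplex A ℤ)
    (q : ∀ n, P ⟶ R n) (hR : ∀ i : ℤ, ∃ N : ℕ, ∀ n, N ≤ n → IsZero ((R n).X i)) :
    ∃ n : ℕ, κ ≫ DerivedCategory.Q.map (q n) = 0 := by
  let γ : K ⟶ ∐ (fun n => DerivedCategory.Q.obj (R n)) :=
    κ ≫ DerivedCategory.Q.map (toSum R q hR) ≫ inv (sigmaComparison DerivedCategory.Q R)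
  obtain ⟨s, hs⟩ := exists_finset _ γ (mem_finSupp_of_isCompactObject hK _ γ)
  obtain ⟨n, hn⟩ := s.exists_notMem
  refine ⟨n, ?_⟩
  have h := hs _ (sigmaComparison DerivedCategory.Q R ≫ DerivedCategory.Q.map (Sigma.π R n))
    (fun j hj => by
      rw [ι_comp_sigmaComparison_assoc, ← Functor.map_comp, Sigma.ι_π_of_ne R (by
        rintro rfl; exact hn hj), Functor.map_zero])
  rw [← toSum_π R q hR n, Functor.map_comp, ← h]
  simp [γ]

/-- The cohomology of a complex representing a compact object is bounded above. -/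
lemma exists_homology_zero {K : DerivedCategory A} (hK : CohDer.IsCompactObject K)
    {P : CochainComplex A ℤ} (e : K ≅ DerivedCategory.Q.obj P) :
    ∃ n : ℤ, ∀ i, n < i → IsZero (P.homology i) := by
  obtain ⟨n, hn⟩ := exists_comp_eq_zero hK e.hom (fun n : ℕ => P.truncGE (n : ℤ))
    (fun n => P.πTruncGE (n : ℤ)) (fun i => ⟨(i + 1).toNat, fun n hn =>
      CochainComplex.isZero_of_isStrictlyGE _ (n : ℤ) i (by lia)⟩)
  refine ⟨n, fun i hi => ?_⟩
  have h0 : DerivedCategory.Q.map (P.πTruncGE (n : ℤ)) = 0 := by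
    rw [← cancel_epi e.hom, hn, comp_zero]
  have h1 : HomologicalComplex.homologyMap (P.πTruncGE (n : ℤ)) i = 0 := by
    have h2 := (DerivedCategory.homologyFunctorFactors A i).hom.naturality (P.πTruncGE (n : ℤ))
    rw [Functor.comp_map, h0, Functor.map_zero, zero_comp] at h2
    have h3 : (DerivedCategory.homologyFunctorFactors A i).hom.app P ≫
      HomologicalComplex.homologyMap (P.πTruncGE (n : ℤ)) i = 0 := h2.symm
    exact (cancel_epi ((DerivedCategory.homologyFunctorFactors A i).hom.app P)).1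
      (h3.trans comp_zero.symm)
  have h2 : QuasiIsoAt (P.πTruncGE (n : ℤ)) i := P.quasiIsoAt_πTruncGE n i hi.le
  have h3 : IsIso (HomologicalComplex.homologyMap (P.πTruncGE (n : ℤ)) i) := inferInstance
  rw [IsZero.iff_id_eq_zero, ← cancel_mono (HomologicalComplex.homologyMap (P.πTruncGE (n : ℤ)) i),
    h1, comp_zero, comp_zero]

/-- Morphisms from a compact object to a complex factor through a stupid truncation. -/
lemma exists_factor_sge {K : DerivedCategory A} (hK : CohDer.IsCompactObject K)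
    {P : CochainComplex A ℤ} (κ : K ⟶ DerivedCategory.Q.obj P) :
    ∃ (m : ℤ) (κ' : K ⟶ DerivedCategory.Q.obj (Groth.Agent.CalgB.DerTri.sge P m)),
      κ = κ' ≫ DerivedCategory.Q.map (Groth.Agent.CalgB.DerTri.sgeHom P m) := by
  obtain ⟨n, hn⟩ := exists_comp_eq_zero hK κ (fun n : ℕ => K225.PC.slt P (-(n : ℤ)))
    (fun n => K225.PC.sltHom P (-(n : ℤ))) (fun i => ⟨(-i).toNat, fun n hn =>
      K225.PC.slt_isZero P _ i (by lia)⟩)
  exact ⟨_, exists_lift (K225.PC.ses_stupid P (-(n : ℤ))) κ hn⟩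

end derived

section sums

variable (S : Set A)

/-- Direct sums of members of `S`. -/
def Sums [HasCoproducts.{v} A] (X : A) : Prop :=
  ∃ (ι : Type v) (E : ι → A), (∀ i, E i ∈ S) ∧ Nonempty (X ≅ ∐ E)

/-- Finite direct sums of members of `S`. -/
def FinSums [HasFiniteBiproducts A] (X : A) : Prop :=
  ∃ (n : ℕ) (E : Fin n → A), (∀ j, E j ∈ S) ∧ Nonempty (X ≅ ⨁ E)

variable {S}

lemma Sums.of_iso [HasCoproducts.{v} A] {X Y : A} (e : X ≅ Y) (h : Sums S X) : Sums S Y := by
  obtain ⟨ι, E, hE, ⟨e'⟩⟩ := h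
  exact ⟨ι, E, hE, ⟨e.symm ≪≫ e'⟩⟩

lemma Sums.of_isZero [HasCoproducts.{v} A] {X : A} (h : IsZero X) : Sums S X := by
  refine ⟨PEmpty.{v + 1}, PEmpty.elim, fun i => i.elim, ⟨h.iso ?_⟩⟩
  rw [IsZero.iff_id_eq_zero]
  exact Sigma.hom_ext _ _ (fun i => i.elim)

variable [HasFiniteBiproducts A]

lemma FinSums.of_iso {X Y : A} (e : X ≅ Y) (h : FinSums S X) : FinSums S Y := by
  obtain ⟨n, E, hE, ⟨e'⟩⟩ := h
  exact ⟨n, E, hE, ⟨e.symm ≪≫ e'⟩⟩

lemma FinSums.of_isZero {X : A} (h : IsZero X) : FinSums S X := by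
  refine ⟨0, Fin.elim0, fun i => i.elim0, ⟨h.iso ?_⟩⟩
  rw [IsZero.iff_id_eq_zero]
  exact biproduct.hom_ext _ _ (fun i => i.elim0)

lemma FinSums.of_fintype {T : Type v} [Finite T] {E : T → A} [HasCoproduct E] (hE : ∀ j, E j ∈ S) :
    FinSums S (∐ E) := by
  obtain ⟨n, ⟨e⟩⟩ := Finite.exists_equiv_fin T
  exact ⟨n, E ∘ e.symm, fun j => hE _, ⟨(Sigma.reindex e.symm E).symm ≪≫
    (biproduct.isoCoproduct (E ∘ e.symm)).symm⟩⟩

end sums

section compact

/-- If `Hom(E, -)` preserves coproducts of shape `J`, all morphisms from `E` to such coproducts are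
finitely supported. -/
lemma mem_finSupp_of_preserves (E : A) (J : Type v) (X : J → A) [HasCoproduct X]
    [PreservesColimitsOfShape (Discrete J) (preadditiveCoyoneda.obj (Opposite.op E))]
    (γ : E ⟶ ∐ X) : γ ∈ finSupp E X := by
  let H := preadditiveCoyoneda.obj (Opposite.op E)
  let q : H.obj (∐ X) ⟶ AddCommGrpCat.of ((E ⟶ ∐ X) ⧸ finSupp E X) :=
    AddCommGrpCat.ofHom (QuotientAddGroup.mk' (finSupp E X))
  have hq : q = 0 := by
    refine (isColimitOfPreserves H (coproductIsCoproduct X)).hom_ext ?_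
    rintro ⟨j⟩
    ext y
    refine (QuotientAddGroup.eq_zero_iff _).2 ?_
    exact comp_ι_mem_finSupp X j y
  have h1 : q.hom γ = 0 := by rw [hq]; rfl
  exact (QuotientAddGroup.eq_zero_iff _).1 h1

variable {S : Set A}
  (h2 : ∀ E ∈ S, ∀ ι : Type v, PreservesColimitsOfShape (Discrete ι)
    (preadditiveCoyoneda.obj (Opposite.op E)))

include h2 in
/-- Morphisms from a finite direct sum of members of `S` to a coproduct are killed by morphisms
killing a suitable finite set of summands. -/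
lemma exists_finset_of_finSums [HasFiniteBiproducts A] {Z : A} (hZ : FinSums S Z) {J : Type v}
    (X : J → A) [HasCoproduct X] (f : Z ⟶ ∐ X) :
    ∃ T : Finset J, ∀ (Y : A) (g : ∐ X ⟶ Y), (∀ j ∈ T, Sigma.ι X j ≫ g = 0) → f ≫ g = 0 := by
  classical
  obtain ⟨n, E, hE, ⟨e⟩⟩ := hZ
  have h : ∀ j : Fin n, ∃ T : Finset J, ∀ (Y : A) (g : ∐ X ⟶ Y),
      (∀ j ∈ T, Sigma.ι X j ≫ g = 0) → (biproduct.ι E j ≫ e.inv ≫ f) ≫ g = 0 := fun j => by
    have := h2 (E j) (hE j) J
    exact exists_finset X _ (mem_finSupp_of_preserves (E j) J X _)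
  choose T hT using h
  refine ⟨Finset.univ.biUnion T, fun Y g hg => ?_⟩
  rw [← cancel_epi e.inv, comp_zero]
  refine biproduct.hom_ext' _ _ (fun j => ?_)
  rw [comp_zero, ← hT j Y g (fun i hi => hg i (Finset.mem_biUnion.2 ⟨j, Finset.mem_univ _, hi⟩))]
  simp only [assoc]

end compact

section kill

variable {J : Type v} (E : J → A) [HasCoproducts.{v} A] (T : Finset J)

open Classical in
/-- The projection killing the summands in `T`. -/
noncomputable def kill : ∐ E ⟶ ∐ (fun j : {j // j ∉ T} => E j.1) :=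
  Sigma.desc (fun j => if h : j ∉ T then Sigma.ι (fun j : {j // j ∉ T} => E j.1) ⟨j, h⟩ else 0)

/-- The inclusion of the summands not in `T`. -/
noncomputable def sect : ∐ (fun j : {j // j ∉ T} => E j.1) ⟶ ∐ E :=
  Sigma.desc (fun j => Sigma.ι E j.1)

/-- The inclusion of the summands in `T`. -/
noncomputable def inT : ∐ (fun j : {j // j ∈ T} => E j.1) ⟶ ∐ E :=
  Sigma.desc (fun j => Sigma.ι E j.1)

open Classical in
/-- The projection on the summands in `T`. -/
noncomputable def retr : ∐ E ⟶ ∐ (fun j : {j // j ∈ T} => E j.1) :=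
  Sigma.desc (fun j => if h : j ∈ T then Sigma.ι (fun j : {j // j ∈ T} => E j.1) ⟨j, h⟩ else 0)

lemma ι_kill (j : J) (h : j ∉ T) :
    Sigma.ι E j ≫ kill E T = Sigma.ι (fun j : {j // j ∉ T} => E j.1) ⟨j, h⟩ := by
  simp [kill, h]

lemma ι_kill_zero (j : J) (h : j ∈ T) : Sigma.ι E j ≫ kill E T = 0 := by
  simp [kill, h]

lemma ι_retr (j : J) (h : j ∈ T) :
    Sigma.ι E j ≫ retr E T = Sigma.ι (fun j : {j // j ∈ T} => E j.1) ⟨j, h⟩ := by
  simp [retr, h]

lemma ι_retr_zero (j : J) (h : j ∉ T) : Sigma.ι E j ≫ retr E T = 0 := by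
  simp [retr, h]

lemma inT_kill : inT E T ≫ kill E T = 0 := by
  refine Sigma.hom_ext _ _ (fun j => ?_)
  rw [inT, Sigma.ι_desc_assoc, ι_kill_zero E T j.1 j.2, comp_zero]

/-- The splitting. -/
noncomputable def splitting : (ShortComplex.mk (inT E T) (kill E T) (inT_kill E T)).Splitting where
  r := retr E T
  s := sect E T
  f_r := by
    refine Sigma.hom_ext _ _ (fun j => ?_)
    dsimp
    rw [inT, Sigma.ι_desc_assoc, ι_retr E T j.1 j.2, comp_id]
  s_g := by
    refine Sigma.hom_ext _ _ (fun j => ?_)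
    dsimp
    rw [sect, Sigma.ι_desc_assoc, ι_kill E T j.1 j.2, comp_id]
  id := by
    refine Sigma.hom_ext _ _ (fun j => ?_)
    dsimp
    by_cases h : j ∈ T
    · rw [Preadditive.comp_add, reassoc_of% (ι_retr E T j h), reassoc_of% (ι_kill_zero E T j h),
        zero_comp, add_zero, inT, Sigma.ι_desc, comp_id]
    · rw [Preadditive.comp_add, reassoc_of% (ι_retr_zero E T j h), reassoc_of% (ι_kill E T j h),
        zero_comp, zero_add, sect, Sigma.ι_desc, comp_id]

/-- The kernel of `kill E T`. -/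
noncomputable def kernelKillIso : kernel (kill E T) ≅ ∐ (fun j : {j // j ∈ T} => E j.1) :=
  IsLimit.conePointUniqueUpToIso (kernelIsKernel (kill E T)) (splitting E T).shortExact.fIsKernel

lemma kill_sect_kill {T T' : Finset J} (h : T ⊆ T') :
    kill E T ≫ sect E T ≫ kill E T' = kill E T' := by
  refine Sigma.hom_ext _ _ (fun j => ?_)
  by_cases hj : j ∈ T
  · rw [reassoc_of% (ι_kill_zero E T j hj), zero_comp, ι_kill_zero E T' j (h hj)]
  · rw [reassoc_of% (ι_kill E T j hj), sect, Sigma.ι_desc_assoc]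

lemma epi_kill : Epi (kill E T) := (splitting E T).shortExact.epi_g

end kill

section main

variable [HasFiniteBiproducts A] [IsGrothendieckAbelian.{v} A] [HasCoproducts.{v} A]
  (S : Set A)

/-- The stage `c` of the induction. -/
structure Stage (a b c : ℤ) (L : CochainComplex A ℤ) : Prop where
  zero : ∀ i : ℤ, i < a ∨ b < i → IsZero (L.X i)
  fin : ∀ i, i < c → FinSums S (L.X i)
  sums : ∀ i, c ≤ i → Sums S (L.X i)

variable {S} [HasDerivedCategory.{v} A] [HasCoproducts.{v} (DerivedCategory A)]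
  (h2 : ∀ E ∈ S, ∀ ι : Type v, PreservesColimitsOfShape (Discrete ι)
    (preadditiveCoyoneda.obj (Opposite.op E)))

include h2 in
lemma exists_step {K : DerivedCategory A} (hK : CohDer.IsCompactObject K) {a b c : ℤ}
    {L : CochainComplex A ℤ} (hL : Stage S a b c L) (κ : K ⟶ DerivedCategory.Q.obj L) :
    ∃ (L' : CochainComplex A ℤ) (_ : Stage S a b (c + 1) L') (i : L' ⟶ L)
      (κ' : K ⟶ DerivedCategory.Q.obj L'), κ = κ' ≫ DerivedCategory.Q.map i := by
  classical
  obtain ⟨Λ, E, hE, ⟨φ⟩⟩ := hL.sums c le_rfl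
  obtain ⟨T₀, hT₀⟩ := exists_finset_of_finSums h2 (hL.fin (c - 1) (by lia)) E
    (L.d (c - 1) c ≫ φ.hom)
  have hT₀' : L.d (c - 1) c ≫ φ.hom ≫ kill E T₀ = 0 := by
    rw [← assoc]
    exact hT₀ _ _ (fun j hj => ι_kill_zero E T₀ j hj)
  let SQ : A ⥤ DerivedCategory A :=
    HomologicalComplex.single A (ComplexShape.up ℤ) c ⋙ DerivedCategory.Q
  let q₀ : L ⟶ (HomologicalComplex.single A (ComplexShape.up ℤ) c).obj
      (∐ (fun j : {j // j ∉ T₀} => E j.1)) :=
    HomologicalComplex.mkHomToSingle (φ.hom ≫ kill E T₀) (fun i hi => by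
      obtain rfl : i = c - 1 := by
        have : i + 1 = c := hi
        lia
      exact hT₀')
  have : PreservesColimitsOfShape (Discrete {j // j ∉ T₀}) SQ := inferInstance
  let γ : K ⟶ ∐ (fun j : {j // j ∉ T₀} => SQ.obj (E j.1)) :=
    κ ≫ DerivedCategory.Q.map q₀ ≫ inv (sigmaComparison SQ (fun j : {j // j ∉ T₀} => E j.1))
  obtain ⟨s, hs⟩ := exists_finset _ γ (mem_finSupp_of_isCompactObject hK _ γ)
  let T₁ : Finset Λ := T₀ ∪ s.map (Function.Embedding.subtype _)
  let r : ∐ (fun j : {j // j ∉ T₀} => E j.1) ⟶ ∐ (fun j : {j // j ∉ T₁} => E j.1) :=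
    sect E T₀ ≫ kill E T₁
  have hr : ∀ j ∈ s, Sigma.ι (fun j : {j // j ∉ T₀} => E j.1) j ≫ r = 0 := fun j hj => by
    dsimp only [r]
    rw [sect, Sigma.ι_desc_assoc]
    refine ι_kill_zero E T₁ j.1 ?_
    exact Finset.mem_union_right _ (Finset.mem_map_of_mem _ hj)
  let q₁ : L ⟶ (HomologicalComplex.single A (ComplexShape.up ℤ) c).obj
      (∐ (fun j : {j // j ∉ T₁} => E j.1)) :=
    q₀ ≫ (HomologicalComplex.single A (ComplexShape.up ℤ) c).map r
  have hq₁ : κ ≫ DerivedCategory.Q.map q₁ = 0 := by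
    have h := hs _ (sigmaComparison SQ (fun j : {j // j ∉ T₀} => E j.1) ≫ SQ.map r)
      (fun j hj => by
        rw [ι_comp_sigmaComparison_assoc, ← Functor.map_comp, hr j hj, Functor.map_zero])
    rw [← h]
    simp only [γ, q₁, assoc, IsIso.inv_hom_id_assoc, Functor.map_comp]
    rfl
  have hqc : q₁.f c = φ.hom ≫ kill E T₁ ≫
      (HomologicalComplex.singleObjXSelf (ComplexShape.up ℤ) c _).inv := by
    dsimp only [q₁, q₀]
    rw [HomologicalComplex.comp_f, HomologicalComplex.mkHomToSingle_f,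
      HomologicalComplex.single_map_f_self]
    simp only [assoc, Iso.inv_hom_id_assoc]
    have hkr : kill E T₀ ≫ r = kill E T₁ := kill_sect_kill E Finset.subset_union_left
    rw [reassoc_of% hkr]
  have hz : ∀ i, i ≠ c → IsZero (((HomologicalComplex.single A (ComplexShape.up ℤ) c).obj
      (∐ (fun j : {j // j ∉ T₁} => E j.1))).X i) := fun i hi =>
    HomologicalComplex.isZero_single_obj_X _ _ _ _ hi
  have hepi : Epi q₁ := by
    refine HomologicalComplex.epi_of_epi_f _ (fun i => ?_)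
    by_cases hi : i = c
    · subst hi
      rw [hqc]
      have := epi_kill E T₁
      infer_instance
    · exact (hz i hi).epi _
  have hS : (ShortComplex.mk (kernel.ι q₁) q₁ (kernel.condition q₁)).ShortExact :=
    { exact := ShortComplex.exact_kernel q₁
      mono_f := inferInstanceAs (Mono (kernel.ι q₁))
      epi_g := hepi }
  obtain ⟨κ', hκ'⟩ := exists_lift hS κ hq₁
  have hiso : ∀ i, i ≠ c → IsIso ((kernel.ι q₁).f i) := fun i hi => by
    have h := (hS.map_of_exact (HomologicalComplex.eval A (ComplexShape.up ℤ) i))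
    exact (ShortComplex.ShortExact.isIso_f_iff h).2 (hz i hi)
  have hc : FinSums S ((kernel q₁).X c) := by
    let e₁ : (kernel q₁).X c ≅ kernel (q₁.f c) :=
      PreservesKernel.iso (HomologicalComplex.eval A (ComplexShape.up ℤ) c) q₁
    let e₂ : kernel (q₁.f c) ≅ kernel (kill E T₁) :=
      kernel.mapIso (q₁.f c) (kill E T₁) φ
        (HomologicalComplex.singleObjXSelf (ComplexShape.up ℤ) c _) (by
          rw [hqc]
          simp)
    exact (FinSums.of_fintype (fun j => hE _)).of_iso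
      (e₁ ≪≫ e₂ ≪≫ kernelKillIso E T₁).symm
  refine ⟨kernel q₁, ⟨fun i hi => ?_, fun i hi => ?_, fun i hi => ?_⟩, kernel.ι q₁, κ', hκ'⟩
  · by_cases hi' : i = c
    · subst hi'
      have : Mono ((kernel.ι q₁).f i) := inferInstance
      exact IsZero.of_mono ((kernel.ι q₁).f i) (hL.zero i hi)
    · have := hiso i hi'
      exact (hL.zero i hi).of_iso (asIso ((kernel.ι q₁).f i))
  · by_cases hi' : i = c
    · subst hi'
      exact hc
    · have := hiso i hi'
      exact (hL.fin i (by lia)).of_iso (asIso ((kernel.ι q₁).f i)).symm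
  · have := hiso i (by lia)
    exact (hL.sums i (by lia)).of_iso (asIso ((kernel.ι q₁).f i)).symm

include h2 in
lemma exists_stage {K : DerivedCategory A} (hK : CohDer.IsCompactObject K) {a b c : ℤ}
    {L : CochainComplex A ℤ} (hL : Stage S a b c L) (κ : K ⟶ DerivedCategory.Q.obj L) (n : ℕ) :
    ∃ (L' : CochainComplex A ℤ) (_ : Stage S a b (c + n) L') (i : L' ⟶ L)
      (κ' : K ⟶ DerivedCategory.Q.obj L'), κ = κ' ≫ DerivedCategory.Q.map i := by
  induction n with
  | zero => exact ⟨L, by simpa using hL, 𝟙 L, κ, by simp⟩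
  | succ n ih =>
    obtain ⟨L₁, hL₁, i₁, κ₁, h₁⟩ := ih
    obtain ⟨L₂, hL₂, i₂, κ₂, h₂⟩ := exists_step h2 hK hL₁ κ₁
    refine ⟨L₂, ?_, i₂ ≫ i₁, κ₂, ?_⟩
    · have e : c + ((n + 1 : ℕ) : ℤ) = c + n + 1 := by push_cast; ring
      rw [e]
      exact hL₂
    · rw [h₁, h₂, Functor.map_comp, assoc]

include h2 in
theorem main (hres : ∀ (K : CochainComplex A ℤ) (a : ℤ) (_ : ∀ n : ℤ, a < n → Limits.IsZero (K.homology n)),
      ∃ (Q : CochainComplex A ℤ) (α : Q ⟶ K), Q.IsStrictlyLE a ∧ (∀ n, Sums S (Q.X n)) ∧ QuasiIso α)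
    (K : DerivedCategory A) (hK : CohDer.IsCompactObject K) :
    ∃ (L : CochainComplex A ℤ) (a b : ℤ),
      (∀ i : ℤ, i < a ∨ b < i → IsZero (L.X i)) ∧
      (∀ i : ℤ, ∃ (n : ℕ) (E : Fin n → A), (∀ j, E j ∈ S) ∧ Nonempty (L.X i ≅ ⨁ E)) ∧
      Nonempty (Retract K (DerivedCategory.Q.obj L)) := by
  let P := DerivedCategory.Q.objPreimage K
  let e : K ≅ DerivedCategory.Q.obj P := (DerivedCategory.Q.objObjPreimageIso K).symm
  obtain ⟨b, hb⟩ := exists_homology_zero hK e
  obtain ⟨R, α, hR, hR', hα⟩ := hres P b hb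
  have hα' : IsIso (DerivedCategory.Q.map α) := inferInstance
  let κ : K ⟶ DerivedCategory.Q.obj R := e.hom ≫ inv (DerivedCategory.Q.map α)
  let ρ : DerivedCategory.Q.obj R ⟶ K := DerivedCategory.Q.map α ≫ e.inv
  have hκρ : κ ≫ ρ = 𝟙 K := by simp [κ, ρ]
  obtain ⟨m, κ₁, h₁⟩ := exists_factor_sge hK κ
  have hstage : Stage S m b m (Groth.Agent.CalgB.DerTri.sge R m) := by
    refine ⟨fun i hi => ?_, fun i hi => ?_, fun i hi => ?_⟩
    · by_cases hi' : i < m
      · exact Groth.Agent.CalgB.DerTri.sge_isZero R m i hi'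
      · have := Groth.Agent.CalgB.DerTri.isIso_sgeHom_f R m i (by lia)
        exact (R.isZero_of_isStrictlyLE b i (by lia)).of_iso
          (asIso ((Groth.Agent.CalgB.DerTri.sgeHom R m).f i))
    · exact FinSums.of_isZero (Groth.Agent.CalgB.DerTri.sge_isZero R m i hi)
    · have := Groth.Agent.CalgB.DerTri.isIso_sgeHom_f R m i (by lia)
      exact (hR' i).of_iso (asIso ((Groth.Agent.CalgB.DerTri.sgeHom R m).f i)).symm
  obtain ⟨L, hL, j, κ₂, h₂⟩ := exists_stage h2 hK hstage κ₁ (b + 1 - m).toNat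
  refine ⟨L, m, b, hL.zero, fun i => ?_, ⟨⟨κ₂, DerivedCategory.Q.map j ≫
    DerivedCategory.Q.map (Groth.Agent.CalgB.DerTri.sgeHom R m) ≫ ρ, ?_⟩⟩⟩
  · by_cases hi : i ≤ b
    · exact hL.fin i (by lia)
    · exact FinSums.of_isZero (hL.zero i (by lia))
  · rw [← assoc, ← h₂, ← assoc, ← h₁, hκρ]

end main

end K236.CompRetract
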