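import Groth.Agent.Cohder.PushoutSES
import Groth.Agent.CohtopB.DimZero

/-!
# Coresolution dimension relative to a coresolving class

`P` is a class of objects such that every object embeds in an object of `P`, and in a short exact
sequence with first term in `P`, the second is in `P` iff the third is. `D P k X` says that `X` has
a coresolution of length `≤ k` by objects of `P`.
-/

set_option autoImplicit false

open CategoryTheory Category Limits ZeroObject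

namespace K236.CosyzDim

universe v u

variable {A : Type u} [Category.{v} A] [Abelian A] (P : ObjectProperty A)

/-- `D P k X`: the object `X` has a coresolution of length `≤ k` by objects of `P`. -/
def D : ℕ → A → Prop
  | 0 => fun X => P X
  | k + 1 => fun X => ∃ (Y Z : A) (f : X ⟶ Y) (g : Y ⟶ Z) (w : f ≫ g = 0),
      (ShortComplex.mk f g w).ShortExact ∧ P Y ∧ D k Z

/-- The hypotheses on the class. -/
structure Hyp : Prop where
  h1 : ∀ X : A, ∃ (Y : A) (i : X ⟶ Y), P Y ∧ Mono i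
  h2 : ∀ S : ShortComplex A, S.ShortExact → P S.X₁ → (P S.X₂ ↔ P S.X₃)

omit P in
lemma ses_of_mono {X Y : A} (f : X ⟶ Y) [Mono f] :
    (ShortComplex.mk f (cokernel.π f) (cokernel.condition f)).ShortExact :=
  { exact := ShortComplex.exact_cokernel f
    mono_f := inferInstanceAs (Mono f)
    epi_g := inferInstanceAs (Epi (cokernel.π f)) }

omit P in
lemma ses_of_isIso {X Y Z : A} (f : X ⟶ Y) [IsIso f] (hZ : IsZero Z) :
    (ShortComplex.mk f (0 : Y ⟶ Z) comp_zero).ShortExact :=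
  { exact := (ShortComplex.exact_iff_epi _ rfl).2 (inferInstanceAs (Epi f))
    mono_f := inferInstanceAs (Mono f)
    epi_g := hZ.epi _ }

omit P in
/-- Pushout of two short exact sequences with the same first term. -/
lemma exists_pushout {X Y Z Q R : A} {f : X ⟶ Y} {g : Y ⟶ Z} {w : f ≫ g = 0}
    (h : (ShortComplex.mk f g w).ShortExact) {i : X ⟶ Q} {p : Q ⟶ R} {w' : i ≫ p = 0}
    (h' : (ShortComplex.mk i p w').ShortExact) :
    ∃ (W : A) (a : Y ⟶ W) (b : W ⟶ R) (c : Q ⟶ W) (e : W ⟶ Z) (w₁ : a ≫ b = 0)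
      (w₂ : c ≫ e = 0), (ShortComplex.mk a b w₁).ShortExact ∧
        (ShortComplex.mk c e w₂).ShortExact := by
  have sq : IsPushout f i (pushout.inl f i) (pushout.inr f i) := IsPushout.of_hasPushout f i
  have w₁ : pushout.inl f i ≫ pushout.desc 0 p (by rw [comp_zero, w']) = 0 := pushout.inl_desc _ _ _
  have w₂ : pushout.inr f i ≫ pushout.desc g 0 (by rw [comp_zero, w]) = 0 := pushout.inr_desc _ _ _
  refine ⟨pushout f i, pushout.inl f i, pushout.desc 0 p (by rw [comp_zero, w']),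
    pushout.inr f i, pushout.desc g 0 (by rw [comp_zero, w]), w₁, w₂, ?_, ?_⟩
  · exact Groth.Agent.Cohder.PushoutSES.shortExact_of_isPushout h' sq.flip
      (pushout.inr_desc _ _ _) w₁
  · exact Groth.Agent.Cohder.PushoutSES.shortExact_of_isPushout h sq
      (pushout.inl_desc _ _ _) w₂

omit P in
/-- The third isomorphism theorem. -/
lemma exists_third {X Y Z Y' Z' : A} {f : X ⟶ Y} {p : Y ⟶ Y'} {w : f ≫ p = 0}
    (h : (ShortComplex.mk f p w).ShortExact) {g : Y ⟶ Z} {q : Z ⟶ Z'} {w' : g ≫ q = 0}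
    (h' : (ShortComplex.mk g q w').ShortExact) :
    ∃ (W : A) (a : Y' ⟶ W) (b : W ⟶ Z') (c : Z ⟶ W) (w₁ : a ≫ b = 0)
      (w₂ : (f ≫ g) ≫ c = 0), (ShortComplex.mk a b w₁).ShortExact ∧
        (ShortComplex.mk (f ≫ g) c w₂).ShortExact := by
  have hf : Mono f := h.mono_f
  have hp : Epi p := h.epi_g
  have hg : Mono g := h'.mono_f
  have sq : IsPushout g p (pushout.inl g p) (pushout.inr g p) := IsPushout.of_hasPushout g p
  have w₁ : pushout.inr g p ≫ pushout.desc q 0 (by rw [comp_zero, w']) = 0 := pushout.inr_desc _ _ _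
  have w₂ : (f ≫ g) ≫ pushout.inl g p = 0 := by
    rw [assoc, pushout.condition, reassoc_of% w, zero_comp]
  refine ⟨pushout g p, pushout.inr g p, pushout.desc q 0 (by rw [comp_zero, w']),
    pushout.inl g p, w₁, w₂, ?_, ?_⟩
  · exact Groth.Agent.Cohder.PushoutSES.shortExact_of_isPushout h' sq
      (pushout.inl_desc _ _ _) w₁
  · refine { exact := ?_, mono_f := mono_comp f g, epi_g := inferInstanceAs (Epi (pushout.inl g p)) }
    refine ShortComplex.exact_of_g_is_cokernel _ ?_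
    have hw : ∀ {T : A} (k : Z ⟶ T) (_ : (f ≫ g) ≫ k = 0), f ≫ (g ≫ k) = 0 := by
      intro T k hk
      rw [← assoc, hk]
    have hfac : ∀ {T : A} (k : Z ⟶ T) (hk : (f ≫ g) ≫ k = 0),
        p ≫ h.gIsCokernel.desc (CokernelCofork.ofπ (g ≫ k) (hw k hk)) = g ≫ k := fun k hk =>
      h.gIsCokernel.fac (CokernelCofork.ofπ (g ≫ k) (hw k hk)) WalkingParallelPair.one
    refine CokernelCofork.IsColimit.ofπ _ _
      (fun k hk => pushout.desc k (h.gIsCokernel.desc (CokernelCofork.ofπ (g ≫ k) (hw k hk)))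
        (hfac k hk).symm)
      (fun k hk => ?_) (fun k hk m hm => ?_)
    · exact pushout.inl_desc _ _ _
    · dsimp at k hk m hm ⊢
      rw [← cancel_epi (pushout.inl g p), hm]
      exact (pushout.inl_desc _ _ _).symm

namespace Hyp

variable {P} (H : Hyp P)

include H

lemma zero {Z : A} (hZ : IsZero Z) : P Z := by
  obtain ⟨Y, i, hY, -⟩ := H.h1 Z
  exact (H.h2 _ (ses_of_isIso (𝟙 Y) hZ) hY).1 hY

lemma iso {X Y : A} (e : X ≅ Y) (hX : P X) : P Y :=
  (H.h2 _ (ses_of_isIso e.hom (isZero_zero A)) hX).2 (H.zero (isZero_zero A))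

lemma D_iso : ∀ (k : ℕ) {X Y : A} (_ : X ≅ Y) (_ : D P k X), D P k Y
  | 0, _, _, e, h => H.iso e h
  | k + 1, X, Y, e, ⟨Q, R, f, g, w, h, hQ, hR⟩ => by
      refine ⟨Q, R, e.inv ≫ f, g, by rw [assoc, w, comp_zero], ?_, hQ, hR⟩
      have hw : (e.inv ≫ f) ≫ g = 0 := by rw [assoc, w, comp_zero]
      have α : ShortComplex.mk f g w ≅ ShortComplex.mk (e.inv ≫ f) g hw :=
        ShortComplex.isoMk e (Iso.refl _) (Iso.refl _) (by simp) (by simp)
      exact ShortComplex.shortExact_of_iso α h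

lemma exists_ses (X : A) : ∃ (Y Z : A) (f : X ⟶ Y) (g : Y ⟶ Z) (w : f ≫ g = 0),
    (ShortComplex.mk f g w).ShortExact ∧ P Y := by
  obtain ⟨Y, i, hY, hi⟩ := H.h1 X
  exact ⟨Y, cokernel i, i, cokernel.π i, _, ses_of_mono i, hY⟩

lemma D_succ : ∀ (k : ℕ) {X : A} (_ : D P k X), D P (k + 1) X
  | 0, X, h => ⟨X, 0, 𝟙 X, 0, comp_zero, ses_of_isIso (𝟙 X) (isZero_zero A), h,
      H.zero (isZero_zero A)⟩
  | k + 1, X, ⟨Q, R, f, g, w, h, hQ, hR⟩ => ⟨Q, R, f, g, w, h, hQ, D_succ k hR⟩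

lemma D_mono {k l : ℕ} (hkl : k ≤ l) {X : A} (h : D P k X) : D P l X := by
  induction hkl with
  | refl => exact h
  | step _ ih => exact H.D_succ _ ih

/-- (c_k) follows from (a_k). -/
lemma c_of_a {k : ℕ}
    (ha : ∀ {Y W Z : A} {f : Y ⟶ W} {g : W ⟶ Z} {w : f ≫ g = 0}
      (_ : (ShortComplex.mk f g w).ShortExact) (_ : P Y), (D P k W ↔ D P k Z))
    {X Y Z : A} {f : X ⟶ Y} {g : Y ⟶ Z} {w : f ≫ g = 0}
    (h : (ShortComplex.mk f g w).ShortExact) (hY : P Y) : D P (k + 1) X ↔ D P k Z := by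
  constructor
  · rintro ⟨Q, R, i, p, w', h', hQ, hR⟩
    obtain ⟨W, a, b, c, e, w₁, w₂, h₁, h₂⟩ := exists_pushout h h'
    exact (ha h₂ hQ).1 ((ha h₁ hY).2 hR)
  · intro hZ
    exact ⟨Y, Z, f, g, w, h, hY, hZ⟩

lemma D_iff : ∀ (k : ℕ) {Y W Z : A} {f : Y ⟶ W} {g : W ⟶ Z} {w : f ≫ g = 0}
      (_ : (ShortComplex.mk f g w).ShortExact) (_ : P Y), D P k W ↔ D P k Z
  | 0, Y, W, Z, f, g, w, h, hY => H.h2 _ h hY
  | k + 1, Y, W, Z, f, g, w, h, hY => by
      obtain ⟨Q, R, i, p, w', h', hQ⟩ := H.exists_ses W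
      obtain ⟨Q', a, b, c, w₁, w₂, h₁, h₂⟩ := exists_third h h'
      have hQ' : P Q' := (H.h2 _ h₂ hY).1 hQ
      rw [H.c_of_a (fun h hY => D_iff k h hY) h' hQ, H.c_of_a (fun h hY => D_iff k h hY) h₁ hQ']

lemma D_succ_iff (k : ℕ) {X Y Z : A} {f : X ⟶ Y} {g : Y ⟶ Z} {w : f ≫ g = 0}
    (h : (ShortComplex.mk f g w).ShortExact) (hY : P Y) : D P (k + 1) X ↔ D P k Z :=
  H.c_of_a (fun h hY => H.D_iff k h hY) h hY

/-- Closure under extensions. -/
lemma D_ext : ∀ (k : ℕ) {X W Z : A} {f : X ⟶ W} {g : W ⟶ Z} {w : f ≫ g = 0}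
      (_ : (ShortComplex.mk f g w).ShortExact) (_ : D P k X) (_ : D P k Z), D P k W
  | 0, _, _, _, _, _, _, h, hX, hZ => (H.h2 _ h hX).2 hZ
  | k + 1, X, W, Z, f, g, w, h, ⟨Q, X', i, p, w', h', hQ, hX'⟩, hZ => by
      obtain ⟨W', a, b, c, e, w₁, w₂, h₁, h₂⟩ := exists_pushout h h'
      have hW' : D P (k + 1) W' := (H.D_iff (k + 1) h₂ hQ).2 hZ
      obtain ⟨J, R, j, q, w'', h'', hJ⟩ := H.exists_ses W'
      have hR : D P k R := (H.D_succ_iff k h'' hJ).1 hW'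
      obtain ⟨V, a', b', c', w₁', w₂', h₁', h₂'⟩ := exists_third h₁ h''
      exact (H.D_succ_iff k h₂' hJ).2 (D_ext k h₁' hX' hR)

lemma D_third {k : ℕ} {X₁ X₂ X₃ : A} {f : X₁ ⟶ X₂} {g : X₂ ⟶ X₃} {w : f ≫ g = 0}
    (h : (ShortComplex.mk f g w).ShortExact) (h₁ : D P (k + 1) X₁) (h₂ : D P k X₂) :
    D P k X₃ := by
  obtain ⟨Q, X', i, p, w', h', hQ, hX'⟩ := h₁
  obtain ⟨W', a, b, c, e, w₁, w₂, h₃, h₄⟩ := exists_pushout h h'
  exact (H.D_iff k h₄ hQ).1 (H.D_ext k h₃ h₂ hX')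

lemma D_biprod {k : ℕ} {X Y : A} (hX : D P k X) (hY : D P k Y) : D P k (X ⊞ Y) :=
  H.D_ext k (ShortComplex.Splitting.ofHasBinaryBiproduct X Y).shortExact hX hY

end Hyp

section seq

variable (n : ℕ) (h1 : ∀ X : A, ∃ (Y : A) (i : X ⟶ Y), P Y ∧ Mono i)

include h1 in
lemma exists_emb (k : ℕ) (X : A) :
    ∃ (Y : A) (i : X ⟶ Y), Mono i ∧ (k < n → P Y) ∧ (n ≤ k → IsIso i) := by
  by_cases h : k < n
  · obtain ⟨Y, i, hY, hi⟩ := h1 X
    exact ⟨Y, i, hi, fun _ => hY, fun h' => by lia⟩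
  · exact ⟨X, 𝟙 X, inferInstance, fun h' => by lia, fun _ => inferInstance⟩

/-- The chosen embedding target. -/
noncomputable def E (k : ℕ) (X : A) : A := (exists_emb P n h1 k X).choose

/-- The chosen embedding. -/
noncomputable def emb (k : ℕ) (X : A) : X ⟶ E P n h1 k X :=
  (exists_emb P n h1 k X).choose_spec.choose

lemma mono_emb (k : ℕ) (X : A) : Mono (emb P n h1 k X) :=
  (exists_emb P n h1 k X).choose_spec.choose_spec.1

lemma P_E (k : ℕ) (hk : k < n) (X : A) : P (E P n h1 k X) :=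
  (exists_emb P n h1 k X).choose_spec.choose_spec.2.1 hk

lemma isIso_emb (k : ℕ) (hk : n ≤ k) (X : A) : IsIso (emb P n h1 k X) :=
  (exists_emb P n h1 k X).choose_spec.choose_spec.2.2 hk

/-- The sequence of cosyzygies. -/
noncomputable def C (X : A) : ℕ → A
  | 0 => X
  | k + 1 => cokernel (emb P n h1 k (C X k))

/-- The projection on the next cosyzygy. -/
noncomputable def proj (X : A) (k : ℕ) : E P n h1 k (C P n h1 X k) ⟶ C P n h1 X (k + 1) :=
  cokernel.π (emb P n h1 k (C P n h1 X k))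

lemma emb_proj (X : A) (k : ℕ) : emb P n h1 k (C P n h1 X k) ≫ proj P n h1 X k = 0 :=
  cokernel.condition _

lemma ses (X : A) (k : ℕ) : (ShortComplex.mk _ _ (emb_proj P n h1 X k)).ShortExact := by
  have := mono_emb P n h1 k (C P n h1 X k)
  exact ses_of_mono (emb P n h1 k (C P n h1 X k))

/-- The coresolution. -/
noncomputable def K (X : A) : CochainComplex A ℕ :=
  CochainComplex.of (fun k => E P n h1 k (C P n h1 X k))
    (fun k => proj P n h1 X k ≫ emb P n h1 (k + 1) (C P n h1 X (k + 1)))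
    (fun k => by
      rw [assoc, reassoc_of% (emb_proj P n h1 X (k + 1)), zero_comp, comp_zero])

lemma K_d (X : A) (k : ℕ) : (K P n h1 X).d k (k + 1) =
    proj P n h1 X k ≫ emb P n h1 (k + 1) (C P n h1 X (k + 1)) :=
  CochainComplex.of_d (fun k => E P n h1 k (C P n h1 X k))
    (fun k => proj P n h1 X k ≫ emb P n h1 (k + 1) (C P n h1 X (k + 1))) k

lemma exact_aux {X₀ X₁ X₂ X₃ X₄ : A} {f₀ : X₀ ⟶ X₁} {f₁ : X₁ ⟶ X₂} {f₂ : X₂ ⟶ X₃} {f₃ : X₃ ⟶ X₄}
    [Epi f₀] [Mono f₃] (w : f₁ ≫ f₂ = 0) (h : (ShortComplex.mk f₁ f₂ w).Exact)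
    (w' : (f₀ ≫ f₁) ≫ (f₂ ≫ f₃) = 0) : (ShortComplex.mk (f₀ ≫ f₁) (f₂ ≫ f₃) w').Exact := by
  have w₁ : f₁ ≫ (f₂ ≫ f₃) = 0 := by rw [reassoc_of% w, zero_comp]
  let φ : ShortComplex.mk (f₀ ≫ f₁) (f₂ ≫ f₃) w' ⟶ ShortComplex.mk f₁ (f₂ ≫ f₃) w₁ :=
    { τ₁ := f₀, τ₂ := 𝟙 _, τ₃ := 𝟙 _ }
  let ψ : ShortComplex.mk f₁ f₂ w ⟶ ShortComplex.mk f₁ (f₂ ≫ f₃) w₁ :=
    { τ₁ := 𝟙 _, τ₂ := 𝟙 _, τ₃ := f₃ }
  have : Epi φ.τ₁ := inferInstanceAs (Epi f₀)
  have : IsIso φ.τ₂ := inferInstanceAs (IsIso (𝟙 _))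
  have : Mono φ.τ₃ := inferInstanceAs (Mono (𝟙 _))
  have : Epi ψ.τ₁ := inferInstanceAs (Epi (𝟙 _))
  have : IsIso ψ.τ₂ := inferInstanceAs (IsIso (𝟙 _))
  have : Mono ψ.τ₃ := inferInstanceAs (Mono f₃)
  rw [ShortComplex.exact_iff_of_epi_of_isIso_of_mono φ,
    ← ShortComplex.exact_iff_of_epi_of_isIso_of_mono ψ]
  exact h

lemma K_exactAt (X : A) (k : ℕ) : (K P n h1 X).ExactAt (k + 1) := by
  rw [HomologicalComplex.exactAt_iff' _ k (k + 1) (k + 1 + 1) (by simp) (by simp)]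
  have : Epi (proj P n h1 X k) := (ses P n h1 X k).epi_g
  have : Mono (emb P n h1 (k + 1 + 1) (C P n h1 X (k + 1 + 1))) := mono_emb P n h1 _ _
  have w' : (proj P n h1 X k ≫ emb P n h1 (k + 1) (C P n h1 X (k + 1))) ≫
      (proj P n h1 X (k + 1) ≫ emb P n h1 (k + 1 + 1) (C P n h1 X (k + 1 + 1))) = 0 := by
    rw [assoc, reassoc_of% (emb_proj P n h1 X (k + 1)), zero_comp, comp_zero]
  have h := exact_aux (f₀ := proj P n h1 X k) (f₁ := emb P n h1 (k + 1) (C P n h1 X (k + 1)))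
    (f₂ := proj P n h1 X (k + 1)) (f₃ := emb P n h1 (k + 1 + 1) (C P n h1 X (k + 1 + 1)))
    (emb_proj P n h1 X (k + 1)) (ses P n h1 X (k + 1)).exact w'
  refine ShortComplex.exact_of_iso ?_ h
  refine ShortComplex.isoMk (Iso.refl _) (Iso.refl _) (Iso.refl _) ?_ ?_
  · exact (id_comp _).trans ((K_d P n h1 X k).trans (comp_id _).symm)
  · exact (id_comp _).trans ((K_d P n h1 X (k + 1)).trans (comp_id _).symm)

lemma isZero_C (X : A) (k : ℕ) (hk : n ≤ k) : IsZero (C P n h1 X (k + 1)) := by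
  have := isIso_emb P n h1 k hk (C P n h1 X k)
  exact isZero_cokernel_of_epi (emb P n h1 k (C P n h1 X k))

lemma isZero_K (X : A) (k : ℕ) (hk : n < k) : IsZero ((K P n h1 X).X k) := by
  obtain ⟨k, rfl⟩ : ∃ l, k = l + 1 := ⟨k - 1, by lia⟩
  have := isIso_emb P n h1 (k + 1) (by lia) (C P n h1 X (k + 1))
  exact (isZero_C P n h1 X k (by lia)).of_iso
    (asIso (emb P n h1 (k + 1) (C P n h1 X (k + 1)))).symm

lemma epi_K (hn : 1 ≤ n) (X : A) : Epi ((K P n h1 X).d (n - 1) n) := by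
  obtain ⟨n, rfl⟩ : ∃ l, n = l + 1 := ⟨n - 1, by lia⟩
  change Epi ((K P (n + 1) h1 X).d n (n + 1))
  rw [K_d]
  have := isIso_emb P (n + 1) h1 (n + 1) le_rfl (C P (n + 1) h1 X (n + 1))
  have : Epi (proj P (n + 1) h1 X n) := (ses P (n + 1) h1 X n).epi_g
  exact epi_comp (proj P (n + 1) h1 X n) (emb P (n + 1) h1 (n + 1) (C P (n + 1) h1 X (n + 1)))

end seq

section main

lemma cast_aux {a b c : ℕ} (h : a ≤ max b c) : (a : ℕ∞) ≤ max (b : ℕ∞) (c : ℕ∞) := by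
  rcases le_max_iff.1 h with h | h
  · exact (Nat.cast_le.2 h).trans (le_max_left _ _)
  · exact (Nat.cast_le.2 h).trans (le_max_right _ _)

lemma cast_aux' {a b c : ℕ} (h : a ≤ max (b - 1) c) : (a : ℕ∞) ≤ max ((b : ℕ∞) - 1) (c : ℕ∞) := by
  have : ((b : ℕ∞) - 1) = ((b - 1 : ℕ) : ℕ∞) := by simp
  rw [this]
  exact cast_aux h

variable (n : ℕ) (hn : 1 ≤ n) (h1 : ∀ X : A, ∃ (Y : A) (i : X ⟶ Y), P Y ∧ Mono i)
  (h2 : ∀ S : ShortComplex A, S.ShortExact → P S.X₁ → (P S.X₂ ↔ P S.X₃))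
  (h3 : ∀ K : CochainComplex A ℕ, (∀ i : ℕ, 1 ≤ i → i ≤ n → K.ExactAt i) →
    (∀ i : ℕ, n < i → IsZero (K.X i)) → Epi (K.d (n - 1) n) →
      (∀ i : ℕ, i < n → P (K.X i)) → P (K.X n))

include hn h1 h2 h3

/-- Every object has a coresolution of length `≤ n`. -/
lemma D_all (X : A) : D P n X := by
  have H : Hyp P := ⟨h1, h2⟩
  have h := h3 (K P n h1 X) (fun i hi _ => by
      obtain ⟨i, rfl⟩ : ∃ l, i = l + 1 := ⟨i - 1, by lia⟩
      exact K_exactAt P n h1 X i) (fun i hi => isZero_K P n h1 X i hi) (epi_K P n h1 hn X)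
      (fun i hi => P_E P n h1 i hi _)
  have hC : P (C P n h1 X n) := by
    have := isIso_emb P n h1 n le_rfl (C P n h1 X n)
    exact H.iso (asIso (emb P n h1 n (C P n h1 X n))).symm h
  have key : ∀ k, k ≤ n → D P k (C P n h1 X (n - k)) := by
    intro k
    induction k with
    | zero => intro _; exact hC
    | succ k ih =>
      intro hk
      have h' := ih (by lia)
      obtain ⟨l, hl, hl'⟩ : ∃ l, n - (k + 1) = l ∧ n - k = l + 1 := ⟨_, rfl, by lia⟩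
      rw [hl'] at h'
      rw [hl]
      exact (H.D_succ_iff k (ses P n h1 X l) (P_E P n h1 l (by lia) _)).2 h'
  have := key n le_rfl
  rw [Nat.sub_self] at this
  exact this

theorem main (X : CochainComplex A ℤ) :
    ∃ (I : CochainComplex A ℤ) (f : X ⟶ I), QuasiIso f ∧ ∀ k : ℤ, P (I.X k) := by
  classical
  have H : Hyp P := ⟨h1, h2⟩
  have hex : ∀ X : A, ∃ k, D P k X := fun X => ⟨n, D_all P n hn h1 h2 h3 X⟩
  let dn : A → ℕ := fun X => Nat.find (hex X)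
  have hdn : ∀ (X : A) (k : ℕ), dn X ≤ k ↔ D P k X := by
    intro X k
    constructor
    · intro h
      exact H.D_mono h (Nat.find_spec (hex X))
    · intro h
      exact Nat.find_min' (hex X) h
  have hd : ∀ (X : A) (k : ℕ), ((dn X : ℕ) : ℕ∞) ≤ (k : ℕ∞) ↔ D P k X := by
    intro X k
    rw [Nat.cast_le, hdn]
  obtain ⟨I, f, hf, hI⟩ := Groth.Agent.CohtopB.DimZero.main (fun X => ((dn X : ℕ) : ℕ∞))
    (by
      rintro X Y ⟨e⟩
      have : dn X = dn Y := le_antisymm ((hdn _ _).2 (H.D_iso _ e.symm ((hdn _ _).1 le_rfl)))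
        ((hdn _ _).2 (H.D_iso _ e ((hdn _ _).1 le_rfl)))
      rw [this])
    (by
      intro X
      obtain ⟨Y, i, hY, hi⟩ := h1 X
      refine ⟨Y, i, hi, ?_⟩
      have : dn Y ≤ 0 := (hdn Y 0).2 hY
      simpa using this)
    (by
      intro X Y
      have : dn (X ⊞ Y) ≤ max (dn X) (dn Y) :=
        (hdn _ _).2 (H.D_biprod ((hdn _ _).1 (le_max_left _ _)) ((hdn _ _).1 (le_max_right _ _)))
      exact cast_aux this)
    (by
      intro S hS
      have : dn S.X₃ ≤ max (dn S.X₁ - 1) (dn S.X₂) := by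
        refine (hdn _ _).2 (H.D_third (f := S.f) (g := S.g) (w := S.zero) hS
          ((hdn _ _).1 (by lia)) ((hdn _ _).1 (le_max_right _ _)))
      exact cast_aux' this)
    X (by
      intro m
      refine ⟨m - n, fun k hk => ?_⟩
      have h₁ : dn (X.X k) ≤ n := (hdn _ _).2 (D_all P n hn h1 h2 h3 _)
      unfold Groth.Agent.CohtopB.DimZero.bd
      have : dn (X.X k) ≤ (m - k).toNat := by lia
      exact_mod_cast this)
  refine ⟨I, f, hf, fun k => ?_⟩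
  have h₀ : ((dn (I.X k) : ℕ) : ℕ∞) = 0 := hI k
  have h₁ : dn (I.X k) ≤ 0 := by
    have : dn (I.X k) = 0 := by exact_mod_cast h₀
    rw [this]
  exact (hdn _ 0).1 h₁

end main

end K236.CosyzDim
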