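import Mathlib.Algebra.Homology.HomotopyCategory.MappingCone
import Mathlib.Algebra.Homology.HomologicalComplexAbelian
import Mathlib.CategoryTheory.Abelian.Injective.Basic
import Mathlib.CategoryTheory.Abelian.Injective.Resolution
import Mathlib.CategoryTheory.Abelian.RightDerived
import Mathlib.CategoryTheory.Preadditive.Injective.Preserves

/-!
# Injective objects in the category of cochain complexes

The abelian category `CochainComplex A ℤ` has enough injectives if `A` does, and injective
complexes have injective terms.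
-/

set_option autoImplicit false

open CategoryTheory Category Limits CochainComplex CochainComplex.HomComplex

namespace K236.CxInj

universe v u

variable {A : Type u} [Category.{v} A] [Abelian A]

/-- The morphism to the cone of the identity attached to a `0`-cochain. -/
noncomputable def toCone {K Z : CochainComplex A ℤ} (β : Cochain K Z 0) :
    K ⟶ mappingCone (𝟙 Z) :=
  mappingCone.lift (𝟙 Z) (Cocycle.mk (-δ 0 1 β) 2 rfl (by rw [δ_neg, δ_δ, neg_zero])) β (by
    ext p q hpq
    simp)

lemma toCone_fst {K Z : CochainComplex A ℤ} (β : Cochain K Z 0) (p q : ℤ) (hpq : p + 1 = q) :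
    (toCone β).f p ≫ (mappingCone.fst (𝟙 Z)).1.v p q hpq =
      -(β.v p p (add_zero p) ≫ Z.d p q) + K.d p q ≫ β.v q q (add_zero q) := by
  rw [toCone, mappingCone.lift_f_fst_v]
  change (-δ 0 1 β).v p q hpq = _
  rw [Cochain.neg_v, δ_zero_cochain_v]
  abel

lemma toCone_snd {K Z : CochainComplex A ℤ} (β : Cochain K Z 0) (p : ℤ) :
    (toCone β).f p ≫ (mappingCone.snd (𝟙 Z)).v p p (add_zero p) = β.v p p (add_zero p) := by
  rw [toCone, mappingCone.lift_f_snd_v]

/-- The cone of the identity of a complex with injective terms is an injective complex. -/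
lemma injective_cone (Z : CochainComplex A ℤ) (hZ : ∀ p, Injective (Z.X p)) :
    Injective (mappingCone (𝟙 Z)) where
  factors {U V} g i hi := by
    have hi' : ∀ p, Mono (i.f p) := fun p => inferInstance
    let β : Cochain V Z 0 := Cochain.ofHoms (fun p =>
      Injective.factorThru (g.f p ≫ (mappingCone.snd (𝟙 Z)).v p p (add_zero p)) (i.f p))
    have hβ : ∀ p, i.f p ≫ β.v p p (add_zero p) =
        g.f p ≫ (mappingCone.snd (𝟙 Z)).v p p (add_zero p) := fun p => by
      rw [Cochain.ofHoms_v]
      exact Injective.comp_factorThru _ _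
    refine ⟨toCone β, ?_⟩
    ext p
    refine mappingCone.ext_to (𝟙 Z) p (p + 1) rfl ?_ ?_
    · rw [HomologicalComplex.comp_f, assoc, toCone_fst, Preadditive.comp_add,
        Preadditive.comp_neg, ← assoc, hβ, i.comm_assoc, hβ, ← g.comm_assoc,
        mappingCone.d_snd_v (𝟙 Z) p (p + 1) rfl]
      simp
    · rw [HomologicalComplex.comp_f, assoc, toCone_snd, hβ]

lemma exists_mono_injective [EnoughInjectives A] (K : CochainComplex A ℤ) :
    ∃ (Z : CochainComplex A ℤ) (_ : ∀ p, Injective (Z.X p)) (i : K ⟶ mappingCone (𝟙 Z)), Mono i := by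
  let Z : CochainComplex A ℤ :=
    { X := fun p => Injective.under (K.X p)
      d := fun _ _ => 0 }
  have hZ : ∀ p, Injective (Z.X p) := fun p => inferInstanceAs (Injective (Injective.under (K.X p)))
  let β : Cochain K Z 0 := Cochain.ofHoms (fun p => Injective.ι (K.X p))
  refine ⟨Z, hZ, toCone β, ?_⟩
  refine HomologicalComplex.mono_of_mono_f _ (fun p => ?_)
  have h := toCone_snd β p
  rw [Cochain.ofHoms_v] at h
  have : Mono ((toCone β).f p ≫ (mappingCone.snd (𝟙 Z)).v p p (add_zero p)) := by
    rw [h]
    exact inferInstanceAs (Mono (Injective.ι (K.X p)))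
  exact mono_of_mono _ ((mappingCone.snd (𝟙 Z)).v p p (add_zero p))

instance enoughInjectives [EnoughInjectives A] : EnoughInjectives (CochainComplex A ℤ) where
  presentation K := by
    obtain ⟨Z, hZ, i, hi⟩ := exists_mono_injective K
    exact ⟨⟨mappingCone (𝟙 Z), injective_cone Z hZ, i, hi⟩⟩

/-- Injective complexes have injective terms. -/
lemma injective_X [EnoughInjectives A] (I : CochainComplex A ℤ) [Injective I] (p : ℤ) :
    Injective (I.X p) := by
  obtain ⟨Z, hZ, i, hi⟩ := exists_mono_injective I
  have h1 : Injective ((mappingCone (𝟙 Z)).X p) :=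
    Injective.of_iso (HomologicalComplex.homotopyCofiber.XIsoBiprod (𝟙 Z) p (p + 1) rfl).symm
      inferInstance
  let r : mappingCone (𝟙 Z) ⟶ I := Injective.factorThru (𝟙 I) i
  have hr : i ≫ r = 𝟙 I := Injective.comp_factorThru _ _
  have hr' : i.f p ≫ r.f p = 𝟙 _ := by
    rw [← HomologicalComplex.comp_f, hr, HomologicalComplex.id_f]
  exact Retract.injective ⟨i.f p, r.f p, hr'⟩

instance [EnoughInjectives A] (p : ℤ) :
    (HomologicalComplex.eval A (ComplexShape.up ℤ) p).PreservesInjectiveObjects where
  injective_obj {I} hI := by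
    have : Injective I := hI
    exact injective_X I p

end K236.CxInj
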