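import Groth.Agent.Cohder.RDInt
import Mathlib.Algebra.Homology.Embedding.CochainComplex

/-!
# The map `F(Iⁿ) ⟶ RⁿF(Y)` for a resolution `I` of `Y` of length `n`
-/

set_option autoImplicit false
set_option backward.isDefEq.respectTransparency false

open CategoryTheory Category Limits HomologicalComplex

namespace K236.Psi

universe v u v' u'

section toH

variable {B : Type u'} [Category.{v'} B] [Abelian B]

/-- The projection `Mⁿ ⟶ Hⁿ(M)` when `Mⁿ⁺¹ = 0`. -/
noncomputable def toH (M : CochainComplex B ℤ) (n : ℤ) (h : IsZero (M.X (n + 1))) :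
    M.X n ⟶ M.homology n :=
  M.liftCycles (𝟙 _) (n + 1) (by simp) (h.eq_of_tgt _ _) ≫ M.homologyπ n

variable (M N : CochainComplex B ℤ) (n : ℤ) (hM : IsZero (M.X (n + 1)))
  (hN : IsZero (N.X (n + 1)))

lemma iCycles_toH : M.iCycles n ≫ toH M n hM = M.homologyπ n := by
  have : M.iCycles n ≫ M.liftCycles (𝟙 _) (n + 1) (by simp) (hM.eq_of_tgt _ _) = 𝟙 _ := by
    rw [← cancel_mono (M.iCycles n), assoc, liftCycles_i, comp_id, id_comp]
  rw [toH, reassoc_of% this]

lemma epi_toH : Epi (toH M n hM) := by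
  have : Epi (M.iCycles n ≫ toH M n hM) := by
    rw [iCycles_toH]
    infer_instance
  exact epi_of_epi (M.iCycles n) _

lemma d_toH (i : ℤ) : M.d i n ≫ toH M n hM = 0 := by
  have : M.d i n ≫ M.liftCycles (𝟙 _) (n + 1) (by simp) (hM.eq_of_tgt _ _) =
      M.toCycles i n := by
    rw [← cancel_mono (M.iCycles n), assoc, liftCycles_i, comp_id, toCycles_i]
  rw [toH, reassoc_of% this, toCycles_comp_homologyπ]

variable {M N}

lemma toH_naturality (f : M ⟶ N) :
    toH M n hM ≫ homologyMap f n = f.f n ≫ toH N n hN := by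
  have : M.liftCycles (𝟙 _) (n + 1) (by simp) (hM.eq_of_tgt _ _) ≫ cyclesMap f n =
      f.f n ≫ N.liftCycles (𝟙 _) (n + 1) (by simp) (hN.eq_of_tgt _ _) := by
    rw [← cancel_mono (N.iCycles n), assoc, assoc, cyclesMap_i, liftCycles_i, comp_id,
      liftCycles_i_assoc, id_comp]
  rw [toH, toH, assoc, homologyπ_naturality, reassoc_of% this]

lemma isIso_toH (h : IsZero (N.X (n - 1))) : IsIso (toH N n hN) := by
  have h1 : IsIso (N.homologyπ n) :=
    N.isIso_homologyπ (n - 1) n (by simp) (h.eq_of_src _ _)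
  have h2 : IsIso (N.liftCycles (𝟙 (N.X n)) (n + 1) (by simp) (hN.eq_of_tgt _ _)) := by
    refine ⟨N.iCycles n, N.liftCycles_i (𝟙 (N.X n)) (n + 1) (by simp) (hN.eq_of_tgt _ _), ?_⟩
    rw [← cancel_mono (N.iCycles n), assoc, liftCycles_i, comp_id, id_comp]
  unfold toH
  infer_instance

/-- A criterion for quasi-isomorphisms to a complex concentrated in degree `n`. -/
lemma quasiIso_of_toH (g : M ⟶ N) (hM' : ∀ i, i ≠ n → M.ExactAt i)
    (hN' : ∀ i, i ≠ n → IsZero (N.X i)) {Y : B} (ν : N.X n ≅ Y) (c : M.homology n ≅ Y)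
    (h : g.f n ≫ ν.hom = toH M n hM ≫ c.hom) : QuasiIso g := by
  have hN : IsZero (N.X (n + 1)) := hN' _ (by lia)
  rw [quasiIso_iff]
  intro i
  by_cases hi : i = n
  · subst hi
    have h1 : IsIso (toH N i hN) := isIso_toH i hN (hN' (i - 1) (by lia))
    have h2 := toH_naturality i hM hN g
    have h3 := epi_toH M i hM
    have h4 : homologyMap g i = c.hom ≫ ν.inv ≫ toH N i hN := by
      rw [← cancel_epi (toH M i hM), h2, ← reassoc_of% h, Iso.hom_inv_id_assoc]
    rw [quasiIsoAt_iff_isIso_homologyMap, h4]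
    infer_instance
  · rw [quasiIsoAt_iff_exactAt g i (hM' i hi)]
    exact ShortComplex.exact_of_isZero_X₂ _ (hN' i hi)

end toH

section psi

open Groth.Agent.Cohder.RDInt

variable {A : Type u} [Category.{v} A] [Abelian A] [HasInjectiveResolutions A]
  {B : Type u'} [Category.{v'} B] [Abelian B] (F : A ⥤ B) [F.Additive]

variable {Y : A} {I K : CochainComplex A ℤ} [K.IsKInjective] (lam : I ⟶ K)
  (i : (CochainComplex.singleFunctor A 0).obj Y ⟶ K) [QuasiIso i] (n : ℕ)
  (hI : IsZero (I.X ((n : ℤ) + 1)))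

/-- The comparison map `Hⁿ(F(I)) ⟶ RⁿF(Y)`. -/
noncomputable def compH :
    ((F.mapHomologicalComplex (ComplexShape.up ℤ)).obj I).homology n ⟶ (F.rightDerived n).obj Y :=
  homologyMap ((F.mapHomologicalComplex (ComplexShape.up ℤ)).map lam) n ≫
    (isoH F i n n rfl).inv

/-- The map `F(Iⁿ) ⟶ RⁿF(Y)`. -/
noncomputable def psi : F.obj (I.X n) ⟶ (F.rightDerived n).obj Y :=
  toH ((F.mapHomologicalComplex (ComplexShape.up ℤ)).obj I) n (F.map_isZero hI) ≫ compH F lam i n

lemma d_psi (k : ℤ) : F.map (I.d k n) ≫ psi F lam i n hI = 0 := by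
  have := d_toH ((F.mapHomologicalComplex (ComplexShape.up ℤ)).obj I) n (F.map_isZero hI) k
  rw [psi, ← assoc]
  refine (congrArg (fun x => x ≫ compH F lam i n) this).trans zero_comp

lemma psi_naturality {Y' : A} {I' K' : CochainComplex A ℤ} [K'.IsKInjective] (lam' : I' ⟶ K')
    (i' : (CochainComplex.singleFunctor A 0).obj Y' ⟶ K') [QuasiIso i']
    (hI' : IsZero (I'.X ((n : ℤ) + 1))) (f : Y ⟶ Y') (u : I ⟶ I') (w : K ⟶ K')
    (h₁ : u ≫ lam' = lam ≫ w)
    (h₂ : i ≫ w = (CochainComplex.singleFunctor A 0).map f ≫ i') :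
    F.map (u.f n) ≫ psi F lam' i' n hI' = psi F lam i n hI ≫ (F.rightDerived n).map f := by
  have h1 := isoH_hom_naturality F f i i' w (Homotopy.ofEq h₂) n n rfl
  have h1' : (isoH F i n n rfl).inv ≫ (F.rightDerived n).map f =
      homologyMap ((F.mapHomologicalComplex (ComplexShape.up ℤ)).map w) n ≫
        (isoH F i' n n rfl).inv := by
    rw [Iso.inv_comp_eq, ← assoc, Iso.eq_comp_inv, h1]
  have h2 := toH_naturality n (F.map_isZero hI) (F.map_isZero hI')
    ((F.mapHomologicalComplex (ComplexShape.up ℤ)).map u)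
  have h3 : homologyMap ((F.mapHomologicalComplex (ComplexShape.up ℤ)).map u) n ≫
      homologyMap ((F.mapHomologicalComplex (ComplexShape.up ℤ)).map lam') n =
      homologyMap ((F.mapHomologicalComplex (ComplexShape.up ℤ)).map lam) n ≫
      homologyMap ((F.mapHomologicalComplex (ComplexShape.up ℤ)).map w) n := by
    rw [← homologyMap_comp, ← homologyMap_comp, ← Functor.map_comp, ← Functor.map_comp, h₁]
  dsimp only [psi, compH]
  rw [assoc, assoc, h1', ← reassoc_of% h3]
  exact (reassoc_of% h2) _ |>.symm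

end psi

end K236.Psi
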