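import Groth.Agent.Htor.H253.TotalQuasi
import Mathlib.Algebra.Homology.Additive
import Mathlib.Algebra.Homology.Single
import Mathlib.Algebra.Homology.HomotopyCategory.Shift

/-!
# Tools for total complexes of bicomplexes with finite antidiagonals

* `hasTotal`: the total complex exists.
* `colIso`: the total complex of a bicomplex concentrated in one column is a shift.
* `mapTotalIso`: additive functors commute with the total complex.
-/

set_option autoImplicit false

open CategoryTheory Category Limits HomologicalComplex₂ ComplexShape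

namespace K236.TotalTools

open Groth.Agent.Htor.H253.TotalPrj

section

variable {C : Type*} [Category* C] [Preadditive C] [HasFiniteCoproducts C] [HasZeroObject C]

omit [HasZeroObject C] in
/-- Families with finitely many nonzero members have a coproduct. -/
lemma hasCoproduct_of_finset {ι : Type*} (f : ι → C) (s : Finset ι) (hs : ∀ i ∉ s, IsZero (f i)) :
    HasCoproduct f := by
  classical
  let c : Cofan f := Cofan.mk (∐ (fun i : s => f i.1))
    (fun i => if h : i ∈ s then Sigma.ι (fun i : s => f i.1) ⟨i, h⟩ else 0)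
  have hc : IsColimit c := Cofan.IsColimit.mk c
    (fun t => (Sigma.desc (fun i : s => t.inj i.1) : ∐ (fun i : s => f i.1) ⟶ t.pt))
    (fun t i => by
      by_cases h : i ∈ s
      · simp [c, h]
      · exact (hs i h).eq_of_src _ _)
    (fun t m hm => by
      change ∐ (fun i : s => f i.1) ⟶ t.pt at m
      refine Sigma.hom_ext _ _ (fun i => ?_)
      have := hm i.1
      rw [Sigma.ι_desc, ← this]
      simp [c])
  exact ⟨⟨c, hc⟩⟩

omit [HasZeroObject C] in
lemma hasTotal {D : HomologicalComplex₂ C (up ℤ) (up ℤ)} (hD : Bdd D) : D.HasTotal (up ℤ) := by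
  classical
  intro n
  obtain ⟨lo, hi, h⟩ := hD n
  let g : ℤ → (ComplexShape.π (up ℤ) (up ℤ) (up ℤ)) ⁻¹' {n} := fun i => ⟨(i, n - i), by
    change i + (n - i) = n
    lia⟩
  refine hasCoproduct_of_finset _ ((Finset.Icc lo hi).image g) ?_
  rintro ⟨⟨i, j⟩, hij⟩ hi'
  have hij' : i + j = n := hij
  refine h i j hij' ?_
  by_contra hcon
  refine hi' (Finset.mem_image.2 ⟨i, Finset.mem_Icc.2 (by lia), ?_⟩)
  ext
  · rfl
  · change n - i = j
    lia

end

section

variable {C : Type*} [Category* C] [Preadditive C] (D : HomologicalComplex₂ C (up ℤ) (up ℤ))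
  [D.HasTotal (up ℤ)]

lemma ι_d' (i j i' j' n n' : ℤ) (hi : i + 1 = i') (hj : j + 1 = j') (h : i + j = n)
    (h' : n + 1 = n') :
    D.ιTotal (up ℤ) i j n h ≫ (D.total (up ℤ)).d n n' =
      (D.d i i').f j ≫ D.ιTotal (up ℤ) i' j n' (by dsimp; lia) +
      i.negOnePow • ((D.X i).d j j' ≫ D.ιTotal (up ℤ) i j' n' (by dsimp; lia)) := by
  subst hi hj
  exact ι_d D i j n n' h h'

end

section col

variable {C : Type*} [Category* C] [Abelian C]

/-- The bicomplex with `Y` in the column `i = a`. -/
noncomputable abbrev col (a : ℤ) (Y : CochainComplex C ℤ) : HomologicalComplex₂ C (up ℤ) (up ℤ) :=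
  (HomologicalComplex.single (CochainComplex C ℤ) (up ℤ) a).obj Y

variable (a : ℤ) (Y : CochainComplex C ℤ)

lemma isZero_col (i j : ℤ) (hi : i ≠ a) : IsZero (((col a Y).X i).X j) :=
  (HomologicalComplex.eval C (up ℤ) j).map_isZero
    (HomologicalComplex.isZero_single_obj_X (up ℤ) a Y i hi)

lemma bdd_col : Bdd (col a Y) := fun _ => ⟨a, a, fun i j _ hi => isZero_col a Y i j (by lia)⟩

/-- The terms in the column `a`. -/
noncomputable def colX (j : ℤ) : Y.X j ≅ ((col a Y).X a).X j :=
  (HomologicalComplex.eval C (up ℤ) j).mapIso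
    (HomologicalComplex.singleObjXSelf (up ℤ) a Y).symm

lemma colX_d (j j' : ℤ) :
    (colX a Y j).hom ≫ ((col a Y).X a).d j j' = Y.d j j' ≫ (colX a Y j').hom :=
  ((HomologicalComplex.singleObjXSelf (up ℤ) a Y).inv.comm j j')

lemma col_d (i i' : ℤ) : (col a Y).d i i' = 0 := rfl

variable [(col a Y).HasTotal (up ℤ)]

/-- The inclusion in degree `n`. -/
noncomputable def colHom (n m : ℤ) (h : a + m = n) : Y.X m ⟶ ((col a Y).total (up ℤ)).X n :=
  (colX a Y m).hom ≫ (col a Y).ιTotal (up ℤ) a m n h

lemma colHom_comm (n n' m m' : ℤ) (h : a + m = n) (h' : a + m' = n') (hn : n + 1 = n') :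
    colHom a Y n m h ≫ ((col a Y).total (up ℤ)).d n n' =
      a.negOnePow • (Y.d m m' ≫ colHom a Y n' m' h') := by
  rw [colHom, Category.assoc, ι_d' (col a Y) a m (a + 1) m' n n' rfl (by lia) h hn, col_d,
    HomologicalComplex.zero_f, zero_comp, zero_add, colHom, Linear.comp_units_smul,
    reassoc_of% (colX_d a Y m m')]

/-- The isomorphism in degree `n`. -/
noncomputable def colIsoX (n m : ℤ) (h : a + m = n) : Y.X m ≅ ((col a Y).total (up ℤ)).X n where
  hom := colHom a Y n m h
  inv := prj (col a Y) a m n ≫ (colX a Y m).inv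
  hom_inv_id := by
    rw [colHom, Category.assoc, reassoc_of% (ι_prj (col a Y) a m n h), Iso.hom_inv_id]
  inv_hom_id := by
    refine ext_prj (bdd_col a Y) fun i j hij => ?_
    by_cases hi : i = a
    · subst hi
      obtain rfl : m = j := by lia
      rw [colHom, Category.assoc, Category.assoc, Category.assoc, ι_prj (col i Y) i m n h, comp_id, Iso.inv_hom_id, comp_id,
        id_comp]
    · exact (isZero_col a Y i j hi).eq_of_tgt _ _

/-- The total complex of `col a Y` is `Y⟦-a⟧`. -/
noncomputable def colIso : Y⟦(-a : ℤ)⟧ ≅ (col a Y).total (up ℤ) :=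
  HomologicalComplex.Hom.isoOfComponents (fun n => colIsoX a Y n (n + -a) (by lia))
    (fun n n' h => by
      have hn : n + 1 = n' := h
      refine (colHom_comm a Y n n' (n + -a) (n' + -a) (by lia) (by lia) hn).trans ?_
      change _ = (((-a).negOnePow • Y.d (n + -a) (n' + -a)) ≫ colHom a Y n' (n' + -a) _)
      rw [Int.negOnePow_neg, Linear.units_smul_comp])

lemma colIso_hom_f (n : ℤ) :
    (colIso a Y).hom.f n = colHom a Y n (n + -a) (by lia) := rfl

end col

section colnat

variable {C : Type*} [Category* C] [Abelian C] (a : ℤ) {Y Y' : CochainComplex C ℤ} (f : Y ⟶ Y')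
  [(col a Y).HasTotal (up ℤ)] [(col a Y').HasTotal (up ℤ)]

lemma colHom_naturality (n m : ℤ) (h : a + m = n) :
    colHom a Y n m h ≫ (total.map ((HomologicalComplex.single (CochainComplex C ℤ) (up ℤ) a).map f)
      (up ℤ)).f n = f.f m ≫ colHom a Y' n m h := by
  rw [colHom, Category.assoc, ιTotal_map, colHom]
  have : (colX a Y m).hom ≫
      (((HomologicalComplex.single (CochainComplex C ℤ) (up ℤ) a).map f).f a).f m =
      f.f m ≫ (colX a Y' m).hom := by
    rw [HomologicalComplex.single_map_f_self]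
    change (HomologicalComplex.singleObjXSelf (up ℤ) a Y).inv.f m ≫
      ((HomologicalComplex.singleObjXSelf (up ℤ) a Y).hom ≫ f ≫
        (HomologicalComplex.singleObjXSelf (up ℤ) a Y').inv).f m = _
    rw [← HomologicalComplex.comp_f, Iso.inv_hom_id_assoc]
    rfl
  rw [reassoc_of% this]

lemma colIso_hom_naturality :
    (colIso a Y).hom ≫
      total.map ((HomologicalComplex.single (CochainComplex C ℤ) (up ℤ) a).map f) (up ℤ) =
      f⟦(-a : ℤ)⟧' ≫ (colIso a Y').hom := by
  ext n
  exact colHom_naturality a f n (n + -a) (by lia)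

end colnat

set_option backward.isDefEq.respectTransparency false

section map

variable {C : Type*} [Category* C] [Abelian C] {E : Type*} [Category* E] [Abelian E]
  (F : C ⥤ E) [F.Additive]

/-- The image of a bicomplex by an additive functor. -/
noncomputable abbrev mapD (D : HomologicalComplex₂ C (up ℤ) (up ℤ)) :
    HomologicalComplex₂ E (up ℤ) (up ℤ) :=
  ((F.mapHomologicalComplex (up ℤ)).mapHomologicalComplex (up ℤ)).obj D

/-- The image of a morphism of bicomplexes by an additive functor. -/
noncomputable abbrev mapDMap {D D' : HomologicalComplex₂ C (up ℤ) (up ℤ)} (φ : D ⟶ D') :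
    mapD F D ⟶ mapD F D' :=
  ((F.mapHomologicalComplex (up ℤ)).mapHomologicalComplex (up ℤ)).map φ

variable {D D' : HomologicalComplex₂ C (up ℤ) (up ℤ)} (hD : Bdd D) (hD' : Bdd D') (φ : D ⟶ D')

include hD in
lemma bdd_mapD : Bdd (mapD F D) := fun n => by
  obtain ⟨lo, hi, h⟩ := hD n
  exact ⟨lo, hi, fun i j hij hi => F.map_isZero (h i j hij hi)⟩

variable [D.HasTotal (up ℤ)] [D'.HasTotal (up ℤ)] [(mapD F D).HasTotal (up ℤ)]
  [(mapD F D').HasTotal (up ℤ)]

/-- The comparison morphism in degree `n`. -/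
noncomputable def mapTotalX (n : ℤ) :
    ((mapD F D).total (up ℤ)).X n ⟶ F.obj ((D.total (up ℤ)).X n) :=
  (mapD F D).totalDesc (fun i j h => F.map (D.ιTotal (up ℤ) i j n h))

lemma ι_mapTotalX (i j n : ℤ) (h : i + j = n) :
    (mapD F D).ιTotal (up ℤ) i j n h ≫ mapTotalX F n = F.map (D.ιTotal (up ℤ) i j n h) :=
  (mapD F D).ι_totalDesc _ _ _ _

lemma map_negOnePow_smul {X Y : C} (k : ℤ) (f : X ⟶ Y) :
    F.map (k.negOnePow • f) = k.negOnePow • F.map f := by
  rcases Int.units_eq_one_or k.negOnePow with h | h <;> rw [h] <;> simp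

lemma mapTotalX_comm (n n' : ℤ) (h : n + 1 = n') :
    mapTotalX (D := D) F n ≫ F.map ((D.total (up ℤ)).d n n') =
      ((mapD F D).total (up ℤ)).d n n' ≫ mapTotalX F n' := by
  apply total.hom_ext
  intro i j hij
  rw [reassoc_of% (ι_mapTotalX (D := D) F i j n hij), ← F.map_comp,
    ι_d' D i j (i + 1) (j + 1) n n' rfl rfl hij h,
    reassoc_of% (ι_d' (mapD F D) i j (i + 1) (j + 1) n n' rfl rfl hij h), Preadditive.add_comp,
    Linear.units_smul_comp, Category.assoc, Category.assoc, ι_mapTotalX, ι_mapTotalX, F.map_add,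
    map_negOnePow_smul, F.map_comp, F.map_comp]
  rfl

include hD in
lemma isIso_mapTotalX (n : ℤ) : IsIso (mapTotalX (D := D) F n) := by
  obtain ⟨lo, hi, h⟩ := hD n
  let g : F.obj ((D.total (up ℤ)).X n) ⟶ ((mapD F D).total (up ℤ)).X n :=
    ∑ i ∈ Finset.Icc lo hi, F.map (prj D i (n - i) n) ≫
      (mapD F D).ιTotal (up ℤ) i (n - i) n (by dsimp; lia)
  refine ⟨g, ?_, ?_⟩
  · apply total.hom_ext
    intro i j hij
    have hij' : i + j = n := hij
    obtain rfl : j = n - i := by lia
    rw [reassoc_of% (ι_mapTotalX (D := D) F i (n - i) n hij), Category.comp_id, Preadditive.comp_sum]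
    by_cases hp : i ∈ Finset.Icc lo hi
    · rw [Finset.sum_eq_single i, ← F.map_comp_assoc, ι_prj D i (n - i) n hij, F.map_id,
        Category.id_comp]
      · intro i' _ hi'
        rw [← F.map_comp_assoc, ι_prj_ne D i (n - i) i' (n - i') n hij hi'.symm, F.map_zero,
          zero_comp]
      · intro h
        exact (h hp).elim
    · refine (F.map_isZero (h i (n - i) hij' ?_)).eq_of_src _ _
      rw [Finset.mem_Icc] at hp
      lia
  · rw [Preadditive.sum_comp, ← F.map_id, id_eq_sum n lo hi h, F.map_sum]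
    refine Finset.sum_congr rfl fun i _ => ?_
    rw [Category.assoc, ι_mapTotalX, F.map_comp]

/-- An additive functor commutes with the total complex. -/
noncomputable def mapTotalIso :
    (mapD F D).total (up ℤ) ≅ (F.mapHomologicalComplex (up ℤ)).obj (D.total (up ℤ)) :=
  HomologicalComplex.Hom.isoOfComponents
    (fun n => @asIso _ _ _ _ (mapTotalX F n) (isIso_mapTotalX F hD n))
    (fun n n' h => mapTotalX_comm F n n' h)

lemma mapTotalIso_hom_f (n : ℤ) : (mapTotalIso F hD).hom.f n = mapTotalX F n := rfl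

lemma mapTotalIso_naturality :
    total.map (mapDMap F φ) (up ℤ) ≫ (mapTotalIso F hD').hom =
      (mapTotalIso F hD).hom ≫ (F.mapHomologicalComplex (up ℤ)).map (total.map φ (up ℤ)) := by
  ext n : 1
  rw [HomologicalComplex.comp_f, HomologicalComplex.comp_f, mapTotalIso_hom_f, mapTotalIso_hom_f]
  apply total.hom_ext
  intro i j hij
  rw [ιTotal_map_assoc, ι_mapTotalX F i j n hij, reassoc_of% (ι_mapTotalX (D := D) F i j n hij)]
  change F.map ((φ.f i).f j) ≫ F.map _ = F.map _ ≫ F.map ((total.map φ (up ℤ)).f n)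
  rw [← F.map_comp, ← F.map_comp, ιTotal_map]

end map

end K236.TotalTools
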