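import Groth.Agent.CohDer.K236.CxInj
import Groth.Agent.CohDer.K236.Psi
import Groth.Agent.Cohder.RDUnbdd
import Groth.Agent.Cohder.RDPlusAcyc
import Groth.Agent.Dcoh.TopCoh
import Groth.Agent.CohDer.K236.TotalTools

/-!
# Truncated injective resolutions of complexes

For a complex `X` of objects of `A`, an injective resolution `R` of `X` in the category of complexes
is truncated in degrees `≤ n`. We obtain a bicomplex `tr R n`.
-/

set_option autoImplicit false
set_option backward.isDefEq.respectTransparency false

open CategoryTheory Category Limits HomologicalComplex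

namespace K236.CxRes

universe v u v' u'

section trunc

variable {V : Type*} [Category* V] [Abelian V] {X : V} (R : InjectiveResolution X) (n : ℕ)

/-- The truncation of an injective resolution. -/
noncomputable def tr : CochainComplex V ℤ := R.cochainComplex.truncLE n

/-- The inclusion of the truncation. -/
noncomputable def lam : tr R n ⟶ R.cochainComplex := R.cochainComplex.ιTruncLE n

instance : Mono (lam R n) := by
  dsimp only [lam, CochainComplex.ιTruncLE]
  infer_instance

instance : R.cochainComplex.IsLE n := R.cochainComplex.isLE_of_le 0 n (by lia)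

instance : QuasiIso (lam R n) := by
  dsimp only [lam]
  infer_instance

instance : (tr R n).IsStrictlyLE n := by
  dsimp only [tr]
  infer_instance

instance : (tr R n).IsStrictlyGE 0 := by
  dsimp only [tr]
  infer_instance

instance : ((CochainComplex.singleFunctor V 0).obj X).IsStrictlyLE n := by
  have : ((CochainComplex.singleFunctor V 0).obj X).IsStrictlyLE 0 :=
    inferInstanceAs (CochainComplex.IsStrictlyLE ((single V (ComplexShape.up ℤ) 0).obj X) 0)
  exact CochainComplex.isStrictlyLE_of_le _ 0 n (by lia)

/-- The augmentation. -/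
noncomputable def eps : (CochainComplex.singleFunctor V 0).obj X ⟶ tr R n :=
  inv (((CochainComplex.singleFunctor V 0).obj X).ιTruncLE n) ≫
    CochainComplex.truncLEMap R.ι' n

lemma eps_lam : eps R n ≫ lam R n = R.ι' := by
  rw [eps, lam, assoc]
  erw [CochainComplex.ιTruncLE_naturality]
  rw [IsIso.inv_hom_id_assoc]

instance : QuasiIso (eps R n) := by
  have : QuasiIso (eps R n ≫ lam R n) := by
    rw [eps_lam]
    infer_instance
  exact quasiIso_of_comp_right _ (lam R n)

lemma isZero_tr_neg (i : ℤ) (hi : i < 0) : IsZero ((tr R n).X i) :=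
  CochainComplex.isZero_of_isStrictlyGE _ 0 i hi

lemma isZero_tr_gt (i : ℤ) (hi : n < i) : IsZero ((tr R n).X i) :=
  CochainComplex.isZero_of_isStrictlyLE _ n i hi

lemma injective_tr (i : ℤ) (hi : i < n) : Injective ((tr R n).X i) := by
  have e : (tr R n).X i ≅ R.cochainComplex.X i := R.cochainComplex.truncLEXIso n i hi
  exact Injective.of_iso e.symm inferInstance

variable {R n} {X' : V} {R' : InjectiveResolution X'} {f : X ⟶ X'}
  (φ : InjectiveResolution.Hom R R' f)

variable (n) in
/-- Functoriality. -/
noncomputable def trMap : tr R n ⟶ tr R' n := CochainComplex.truncLEMap φ.hom' n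

lemma trMap_lam : trMap n φ ≫ lam R' n = lam R n ≫ φ.hom' :=
  CochainComplex.ιTruncLE_naturality _ _

lemma eps_trMap : eps R n ≫ trMap n φ =
    (CochainComplex.singleFunctor V 0).map f ≫ eps R' n := by
  rw [← cancel_mono (lam R' n), assoc, assoc, trMap_lam, ← assoc, eps_lam, eps_lam]
  exact InjectiveResolution.Hom.ι'_comp_hom' φ

end trunc

section cx

variable {A : Type u} [Category.{v} A] [Abelian A]

variable (A) in
/-- The differential as a natural transformation between evaluation functors. -/
noncomputable def evD (p p' : ℤ) :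
    HomologicalComplex.eval A (ComplexShape.up ℤ) p ⟶ HomologicalComplex.eval A (ComplexShape.up ℤ) p' where
  app K := K.d p p'
  naturality _ _ f := f.comm p p'

variable (A) in
/-- The evaluation of a complex of complexes. -/
noncomputable abbrev E (p : ℤ) : CochainComplex (CochainComplex A ℤ) ℤ ⥤ CochainComplex A ℤ :=
  (HomologicalComplex.eval A (ComplexShape.up ℤ) p).mapHomologicalComplex (ComplexShape.up ℤ)

variable (A) in
/-- The natural transformation between evaluations given by the differential. -/
noncomputable abbrev ED (p p' : ℤ) : E A p ⟶ E A p' :=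
  NatTrans.mapHomologicalComplex (evD A p p') (ComplexShape.up ℤ)

variable {X : CochainComplex A ℤ} (R : InjectiveResolution X) (n : ℕ)

/-- The evaluation of the augmentation. -/
noncomputable def evι (p : ℤ) :
    (CochainComplex.singleFunctor A 0).obj (X.X p) ⟶ (E A p).obj R.cochainComplex :=
  (singleMapHomologicalComplex (HomologicalComplex.eval A (ComplexShape.up ℤ) p)
    (ComplexShape.up ℤ) 0).inv.app X ≫ (E A p).map R.ι'

instance (p : ℤ) : QuasiIso (evι R p) := by
  dsimp only [evι]
  infer_instance

instance (p : ℤ) : ((E A p).obj R.cochainComplex).IsStrictlyGE 0 := by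
  rw [CochainComplex.isStrictlyGE_iff]
  intro i hi
  exact (HomologicalComplex.eval A (ComplexShape.up ℤ) p).map_isZero
    (CochainComplex.isZero_of_isStrictlyGE _ 0 i hi)

instance (p : ℤ) : ((E A p).obj (tr R n)).IsStrictlyGE 0 := by
  rw [CochainComplex.isStrictlyGE_iff]
  intro i hi
  exact (HomologicalComplex.eval A (ComplexShape.up ℤ) p).map_isZero
    (CochainComplex.isZero_of_isStrictlyGE _ 0 i hi)

instance (p : ℤ) : ((E A p).obj (tr R n)).IsStrictlyLE n := by
  rw [CochainComplex.isStrictlyLE_iff]
  intro i hi
  exact (HomologicalComplex.eval A (ComplexShape.up ℤ) p).map_isZero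
    (CochainComplex.isZero_of_isStrictlyLE _ n i hi)

section

variable [EnoughInjectives A]

lemma injective_E (p i : ℤ) : Injective (((E A p).obj R.cochainComplex).X i) :=
  CxInj.injective_X (R.cochainComplex.X i) p

instance (p : ℤ) : ((E A p).obj R.cochainComplex).IsKInjective := by
  have := injective_E R p
  exact CochainComplex.isKInjective_of_injective _ 0

end

lemma single_naturality_d (X : CochainComplex A ℤ) (p p' : ℤ) :
    (singleMapHomologicalComplex (HomologicalComplex.eval A (ComplexShape.up ℤ) p)
      (ComplexShape.up ℤ) 0).inv.app X ≫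
      (ED A p p').app ((CochainComplex.singleFunctor (CochainComplex A ℤ) 0).obj X) =
    (CochainComplex.singleFunctor A 0).map (X.d p p') ≫
      (singleMapHomologicalComplex (HomologicalComplex.eval A (ComplexShape.up ℤ) p')
        (ComplexShape.up ℤ) 0).inv.app X := by
  refine from_single_hom_ext ?_
  rw [HomologicalComplex.comp_f, HomologicalComplex.comp_f,
    singleMapHomologicalComplex_inv_app_self, singleMapHomologicalComplex_inv_app_self]
  have h1 : ((CochainComplex.singleFunctor A 0).map (X.d p p')).f 0 =
      (singleObjXSelf (ComplexShape.up ℤ) 0 (X.X p)).hom ≫ X.d p p' ≫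
        (singleObjXSelf (ComplexShape.up ℤ) 0 (X.X p')).inv := single_map_f_self _ _ _
  rw [h1]
  have h2 := (evD A p p').naturality (singleObjXSelf (ComplexShape.up ℤ) 0 X).inv
  have h3 : ((ED A p p').app ((CochainComplex.singleFunctor (CochainComplex A ℤ) 0).obj X)).f 0 =
      (evD A p p').app (((CochainComplex.singleFunctor (CochainComplex A ℤ) 0).obj X).X 0) := rfl
  rw [h3]
  simp only [assoc]
  congr 1
  refine h2.trans ?_
  change X.d p p' ≫ _ = X.d p p' ≫ _ ≫ _ ≫ _
  congr 1
  exact (Iso.inv_hom_id_assoc _ _).symm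

lemma evι_naturality_d (p p' : ℤ) :
    evι R p ≫ (ED A p p').app R.cochainComplex =
      (CochainComplex.singleFunctor A 0).map (X.d p p') ≫ evι R p' := by
  have h1 := (ED A p p').naturality R.ι'
  have h2 := single_naturality_d X p p'
  dsimp only [evι]
  rw [assoc, h1, reassoc_of% h2]

lemma evι_naturality {X' : CochainComplex A ℤ} {R' : InjectiveResolution X'} {f : X ⟶ X'}
    (φ : InjectiveResolution.Hom R R' f) (p : ℤ) :
    evι R p ≫ (E A p).map φ.hom' =
      (CochainComplex.singleFunctor A 0).map (f.f p) ≫ evι R' p := by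
  have h1 := (singleMapHomologicalComplex (HomologicalComplex.eval A (ComplexShape.up ℤ) p)
    (ComplexShape.up ℤ) 0).inv.naturality f
  have h2 := InjectiveResolution.Hom.ι'_comp_hom' φ
  rw [evι, evι, assoc, ← Functor.map_comp, h2, Functor.map_comp]
  exact (reassoc_of% h1) _ |>.symm

end cx

section psi

open TotalTools Groth.Agent.Cohder.RDInt Groth.Agent.Cohder.RDAcyc

variable {A : Type u} [Category.{v} A] [Abelian A] [EnoughInjectives A]
  {B : Type u'} [Category.{v'} B] [Abelian B] (F : A ⥤ B) [F.Additive]

variable {X : CochainComplex A ℤ} (R : InjectiveResolution X) (n : ℕ)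

lemma isZero_E (p : ℤ) : IsZero (((E A p).obj (tr R n)).X ((n : ℤ) + 1)) :=
  CochainComplex.isZero_of_isStrictlyLE _ n _ (by lia)

/-- The component of `psiHom`. -/
noncomputable def psiX (p : ℤ) :
    F.obj (((tr R n).X n).X p) ⟶ (F.rightDerived n).obj (X.X p) :=
  Psi.psi F ((E A p).map (lam R n)) (evι R p) n (isZero_E R n p)

variable [(F.rightDerived n).Additive]

/-- The morphism `F(Iⁿ) ⟶ RⁿF(X)` of complexes. -/
noncomputable def psiHom :
    (F.mapHomologicalComplex (ComplexShape.up ℤ)).obj ((tr R n).X n) ⟶
      ((F.rightDerived n).mapHomologicalComplex (ComplexShape.up ℤ)).obj X where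
  f p := psiX F R n p
  comm' p p' _ := (Psi.psi_naturality F ((E A p).map (lam R n)) (evι R p) n (isZero_E R n p)
    ((E A p').map (lam R n)) (evι R p') (isZero_E R n p') (X.d p p')
    ((ED A p p').app (tr R n)) ((ED A p p').app R.cochainComplex)
    ((ED A p p').naturality (lam R n)).symm (evι_naturality_d R p p')).symm

lemma d_psiHom (k : ℤ) :
    (mapD F (tr R n)).d k n ≫ psiHom F R n = 0 := by
  ext p
  exact Psi.d_psi F ((E A p).map (lam R n)) (evι R p) n (isZero_E R n p) k

/-- The morphism of bicomplexes `F(I) ⟶ RⁿF(X)[-n]`. -/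
noncomputable def eta :
    mapD F (tr R n) ⟶ col n
      (((F.rightDerived n).mapHomologicalComplex (ComplexShape.up ℤ)).obj X) :=
  mkHomToSingle (psiHom F R n) (fun k _ => d_psiHom F R n k)

variable {X' : CochainComplex A ℤ} {R' : InjectiveResolution X'} {f : X ⟶ X'}
    (φ : InjectiveResolution.Hom R R' f)

variable {R} in
lemma psiHom_naturality :
    (F.mapHomologicalComplex (ComplexShape.up ℤ)).map ((trMap n φ).f n) ≫ psiHom F R' n =
      psiHom F R n ≫ ((F.rightDerived n).mapHomologicalComplex (ComplexShape.up ℤ)).map f := by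
  ext p
  exact Psi.psi_naturality F ((E A p).map (lam R n)) (evι R p) n (isZero_E R n p)
    ((E A p).map (lam R' n)) (evι R' p) (isZero_E R' n p) (f.f p) ((E A p).map (trMap n φ))
    ((E A p).map φ.hom') (by
      rw [← Functor.map_comp, trMap_lam, Functor.map_comp]) (evι_naturality R φ p)

variable {R} in
lemma eta_naturality :
    mapDMap F (trMap n φ) ≫ eta F R' n = eta F R n ≫
      (HomologicalComplex.single (CochainComplex B ℤ) (ComplexShape.up ℤ) n).map
        (((F.rightDerived n).mapHomologicalComplex (ComplexShape.up ℤ)).map f) := by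
  refine to_single_hom_ext ?_
  rw [HomologicalComplex.comp_f, HomologicalComplex.comp_f, eta, eta, mkHomToSingle_f,
    mkHomToSingle_f, single_map_f_self]
  have h := psiHom_naturality F n φ
  simp only [assoc, Iso.inv_hom_id_assoc]
  rw [← reassoc_of% h]
  rfl

end psi

section acyc

open TotalTools Groth.Agent.Cohder.RDInt Groth.Agent.Cohder.RDAcyc

variable {A : Type u} [Category.{v} A] [Abelian A] [EnoughInjectives A]
  {B : Type u'} [Category.{v'} B] [Abelian B] (F : A ⥤ B) [F.Additive]

variable {X : CochainComplex A ℤ} (R : InjectiveResolution X) (n : ℕ)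

omit [EnoughInjectives A] in
lemma exactAt_E (p i : ℤ) (hi : i ≠ 0) : ((E A p).obj (tr R n)).ExactAt i := by
  have h1 : ((E A p).obj ((CochainComplex.singleFunctor (CochainComplex A ℤ) 0).obj X)).ExactAt i := by
    refine ShortComplex.exact_of_isZero_X₂ _ ?_
    exact (HomologicalComplex.eval A (ComplexShape.up ℤ) p).map_isZero
      (isZero_single_obj_X (ComplexShape.up ℤ) 0 X i hi)
  exact (quasiIsoAt_iff_exactAt ((E A p).map (eps R n)) i h1).1 inferInstance

lemma isAcyc_of_isZero {Y : A} (hY : IsZero Y) : IsAcyc F Y := by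
  have := hY.injective
  exact isAcyc_injective F Y

variable (hdim : ∀ (X : A) (i : ℕ), n < i → IsZero ((F.rightDerived i).obj X))

include hdim in
lemma isZero_cycles (p : ℤ) (k : ℕ) (hk : k ≤ n) : ∀ j : ℕ, n < j + k →
    IsZero ((F.rightDerived j).obj (((E A p).obj (tr R n)).cycles k)) := by
  induction k with
  | zero => exact fun j hj => hdim _ j (by lia)
  | succ k ih =>
    intro j hj
    have hS := Groth.Agent.Dcoh.TopCoh.shortExact_cycles ((E A p).obj (tr R n)) k (k + 1) rfl
      ((exactAt_E R n p (k + 1) (by lia)).isZero_homology)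
    have h2 : Injective (((E A p).obj (tr R n)).X k) := by
      have := injective_tr R n k (by lia)
      exact CxInj.injective_X ((tr R n).X k) p
    exact isZero_X₃ F hS j (isAcyc_injective F _ j (by lia)) (ih (by lia) (j + 1) (by lia))

include hdim in
/-- The terms of the truncated resolution are acyclic. -/
lemma isAcyc_tr (i p : ℤ) : IsAcyc F (((tr R n).X i).X p) := by
  by_cases h0 : i < 0
  · exact isAcyc_of_isZero F ((HomologicalComplex.eval A (ComplexShape.up ℤ) p).map_isZero
      (isZero_tr_neg R n i h0))
  by_cases hn : (n : ℤ) < i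
  · exact isAcyc_of_isZero F ((HomologicalComplex.eval A (ComplexShape.up ℤ) p).map_isZero
      (isZero_tr_gt R n i hn))
  by_cases hn' : i < n
  · have := injective_tr R n i hn'
    have := CxInj.injective_X ((tr R n).X i) p
    exact isAcyc_injective F _
  obtain rfl : i = n := by lia
  have h1 : IsIso (((E A p).obj (tr R n)).iCycles n) :=
    ((E A p).obj (tr R n)).isIso_iCycles (n : ℤ) ((n : ℤ) + 1) (by simp)
      ((isZero_E R n p).eq_of_tgt _ _)
  intro j hj
  exact (isZero_cycles F R n hdim p n le_rfl j (by lia)).of_iso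
    ((F.rightDerived j).mapIso (asIso (((E A p).obj (tr R n)).iCycles n))).symm

variable [PreservesFiniteLimits F]

include hdim in
lemma quasiIso_map_lam (p : ℤ) :
    QuasiIso ((F.mapHomologicalComplex (ComplexShape.up ℤ)).map ((E A p).map (lam R n))) := by
  refine Groth.Agent.Cohder.RDPlusAcyc.quasiIso_map F _ 0 0 (fun i => isAcyc_tr F R n hdim i p)
    (fun i => ?_)
  have := injective_E R p i
  exact isAcyc_injective F _

include hdim in
lemma exactAt_map (p : ℤ) (hX : ∀ i : ℕ, i ≠ n → IsZero ((F.rightDerived i).obj (X.X p)))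
    (i : ℤ) (hi : i ≠ n) :
    ((F.mapHomologicalComplex (ComplexShape.up ℤ)).obj ((E A p).obj (tr R n))).ExactAt i := by
  by_cases h0 : i < 0
  · refine ShortComplex.exact_of_isZero_X₂ _ (F.map_isZero ?_)
    exact (HomologicalComplex.eval A (ComplexShape.up ℤ) p).map_isZero
      (isZero_tr_neg R n i h0)
  obtain ⟨k, rfl⟩ : ∃ k : ℕ, i = k := ⟨i.toNat, by lia⟩
  have h1 := quasiIso_map_lam F R n hdim p
  have h2 : ((F.mapHomologicalComplex (ComplexShape.up ℤ)).obj
      ((E A p).obj R.cochainComplex)).ExactAt k := by
    rw [exactAt_iff_isZero_homology]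
    exact (hX k (by lia)).of_iso (isoH F (evι R p) k k rfl).symm
  exact (quasiIsoAt_iff_exactAt' ((F.mapHomologicalComplex (ComplexShape.up ℤ)).map
    ((E A p).map (lam R n))) (k : ℤ) h2).1 inferInstance

variable [(F.rightDerived n).Additive]

include hdim in
lemma quasiIso_E_eta (p : ℤ) (hX : ∀ i : ℕ, i ≠ n → IsZero ((F.rightDerived i).obj (X.X p))) :
    QuasiIso ((E B p).map (eta F R n)) := by
  have h1 := quasiIso_map_lam F R n hdim p
  have h2 : IsIso (Psi.compH F ((E A p).map (lam R n)) (evι R p) n) := by
    unfold Psi.compH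
    infer_instance
  refine Psi.quasiIso_of_toH (M := (F.mapHomologicalComplex (ComplexShape.up ℤ)).obj
    ((E A p).obj (tr R n))) (n : ℤ) (F.map_isZero (isZero_E R n p)) ((E B p).map (eta F R n))
    (exactAt_map F R n hdim p hX) (fun i hi => ?_)
    ((HomologicalComplex.eval B (ComplexShape.up ℤ) p).mapIso
      (singleObjXSelf (ComplexShape.up ℤ) (n : ℤ) _)) (asIso (Psi.compH F ((E A p).map (lam R n)) (evι R p) n)) ?_
  · exact isZero_col _ _ _ _ hi
  · have h3 : (eta F R n).f n ≫ (singleObjXSelf (ComplexShape.up ℤ) (n : ℤ)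
        (((F.rightDerived n).mapHomologicalComplex (ComplexShape.up ℤ)).obj X)).hom =
        psiHom F R n := by
      rw [eta, mkHomToSingle_f, assoc, Iso.inv_hom_id, comp_id]
    exact congrArg (fun g => g.f p) h3

end acyc

end K236.CxRes
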