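import Mathlib.Algebra.Homology.Refinements
import Mathlib.Algebra.Homology.QuasiIso
import Mathlib.Algebra.Homology.Embedding.CochainComplex
import Mathlib.CategoryTheory.Abelian.CommSq
import Mathlib.CategoryTheory.Functor.EpiMono
import Mathlib.CategoryTheory.Preadditive.Injective.Basic
import Groth.Agent.CohtopB.RelRes

/-!
# Resolutions of bounded below complexes with cohomology in a thick abelian subcategory

`exists_quasiIso`: let `ι : A' ⥤ A` be an exact fully faithful functor whose essential image is closed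
under extensions, and assume that every object of `A'` embeds into an object of `A'` whose image in `A` is
injective.  Then a complex `K` in `A`, zero in degrees `< a`, with cohomology in the essential image of
`ι`, admits a quasi-isomorphism to `ι I`, where `I` is zero in degrees `< a` and the `ι (I^n)` are injective.
-/

set_option autoImplicit false
set_option backward.isDefEq.respectTransparency false
set_option backward.defeqAttrib.useBackward true

universe v v' u u'

open CategoryTheory CategoryTheory.Limits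

namespace K236.ExtRes

section Pushout

variable {A : Type u} [Category.{v} A] [Abelian A]

/-- Kernel of the map from the sum to the pushout, up to refinements. -/
lemma pushout_eq {X C K P : A} {a : X ⟶ C} {d : X ⟶ K} {inl : C ⟶ P} {inr : K ⟶ P}
    (h : IsPushout a d inl inr) {T : A} (c : T ⟶ C) (k : T ⟶ K) (hck : c ≫ inl = k ≫ inr) :
    ∃ (T' : A) (π : T' ⟶ T) (_ : Epi π) (x : T' ⟶ X), π ≫ c = x ≫ a ∧ π ≫ k = x ≫ d := by
  obtain ⟨T', π, hπ, x, hx⟩ := h.exact_shortComplex.exact_up_to_refinements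
    (biprod.lift c (-k)) (by simp [hck])
  refine ⟨T', π, hπ, x, ?_, ?_⟩
  · have := hx =≫ biprod.fst
    simpa using this
  · have := hx =≫ biprod.snd
    simpa using this

end Pushout

section Ess

variable {A' : Type u'} [Category.{v'} A'] [Abelian A'] {A : Type u} [Category.{v} A] [Abelian A]
    (ι : A' ⥤ A) [ι.Additive] [PreservesFiniteColimits ι] [ι.Full] [ι.Faithful]

omit [ι.Faithful] in
/-- The essential image is closed under cokernels. -/
lemma essImage_cokernel {X Y : A} (g : X ⟶ Y) (hX : ι.essImage X) (hY : ι.essImage Y) :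
    ι.essImage (cokernel g) := by
  obtain ⟨X', ⟨eX⟩⟩ := hX
  obtain ⟨Y', ⟨eY⟩⟩ := hY
  let g' := ι.preimage (eX.hom ≫ g ≫ eY.inv)
  have h : ι.map g' ≫ eY.hom = eX.hom ≫ g := by simp [g']
  exact ⟨cokernel g', ⟨PreservesCokernel.iso ι g' ≪≫ cokernel.mapIso _ _ eX eY h⟩⟩

end Ess

section SES

variable {A : Type u} [Category.{v} A] [Abelian A] (K : CochainComplex A ℤ) (n : ℤ) {C : A}
  (a : K.X n ⟶ C) (ha : K.d (n - 1) n ≫ a = 0)

/-- The map from the homology to `C`. -/
noncomputable def gMap : K.homology n ⟶ C :=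
  (K.homologyIsCokernel (n - 1) n (by simp)).desc (CokernelCofork.ofπ (K.iCycles n ≫ a) (by
    rw [HomologicalComplex.toCycles_i_assoc, ha]))

@[reassoc]
lemma homologyπ_gMap : K.homologyπ n ≫ gMap K n a ha = K.iCycles n ≫ a :=
  (K.homologyIsCokernel (n - 1) n (by simp)).fac (CokernelCofork.ofπ (K.iCycles n ≫ a) (by
    rw [HomologicalComplex.toCycles_i_assoc, ha])) WalkingParallelPair.one

/-- The map from the pushout. -/
noncomputable def pMap : pushout a (K.d n (n + 1)) ⟶ K.X (n + 2) :=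
  pushout.desc 0 (K.d (n + 1) (n + 2)) (by simp)

@[reassoc (attr := simp)]
lemma inl_pMap : pushout.inl a (K.d n (n + 1)) ≫ pMap K n a = 0 := by simp [pMap]

@[reassoc (attr := simp)]
lemma inr_pMap : pushout.inr a (K.d n (n + 1)) ≫ pMap K n a = K.d (n + 1) (n + 2) := by simp [pMap]

/-- The map from the pushout to the opcycles. -/
noncomputable def oMap : pushout a (K.d n (n + 1)) ⟶ K.opcycles (n + 1) :=
  pushout.desc 0 (K.pOpcycles (n + 1)) (by simp)

@[reassoc (attr := simp)]
lemma inl_oMap : pushout.inl a (K.d n (n + 1)) ≫ oMap K n a = 0 := by simp [oMap]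

@[reassoc (attr := simp)]
lemma inr_oMap : pushout.inr a (K.d n (n + 1)) ≫ oMap K n a = K.pOpcycles (n + 1) := by simp [oMap]

@[reassoc]
lemma oMap_fromOpcycles : oMap K n a ≫ K.fromOpcycles (n + 1) (n + 2) = pMap K n a := by
  apply pushout.hom_ext <;> simp

/-- The first map of the short exact sequence. -/
noncomputable def fMap : cokernel (gMap K n a ha) ⟶ kernel (pMap K n a) :=
  cokernel.desc _ (kernel.lift _ (pushout.inl a (K.d n (n + 1))) (by simp)) (by
    rw [← cancel_epi (K.homologyπ n), ← cancel_mono (kernel.ι (pMap K n a))]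
    simp [homologyπ_gMap_assoc, pushout.condition])

@[reassoc (attr := simp)]
lemma π_fMap : cokernel.π (gMap K n a ha) ≫ fMap K n a ha ≫ kernel.ι (pMap K n a) =
    pushout.inl a (K.d n (n + 1)) := by simp [fMap]

/-- The second map of the short exact sequence. -/
noncomputable def hMap : kernel (pMap K n a) ⟶ K.homology (n + 1) :=
  (K.homologyIsKernel (n + 1) (n + 2) (by simp; lia)).lift (KernelFork.ofι
    (kernel.ι (pMap K n a) ≫ oMap K n a) (by
      rw [Category.assoc, oMap_fromOpcycles, kernel.condition]))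

@[reassoc (attr := simp)]
lemma hMap_homologyι : hMap K n a ≫ K.homologyι (n + 1) = kernel.ι (pMap K n a) ≫ oMap K n a :=
  (K.homologyIsKernel (n + 1) (n + 2) (by simp; lia)).fac (KernelFork.ofι
    (kernel.ι (pMap K n a) ≫ oMap K n a) (by
      rw [Category.assoc, oMap_fromOpcycles, kernel.condition])) WalkingParallelPair.zero

/-- The short complex `coker (H^n → C) → P' → H^{n+1}`. -/
noncomputable def ses : ShortComplex A :=
  ShortComplex.mk (fMap K n a ha) (hMap K n a) (by
    rw [← cancel_epi (cokernel.π (gMap K n a ha)), ← cancel_mono (K.homologyι (n + 1))]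
    simp)

lemma ses_shortExact : (ses K n a ha).ShortExact where
  exact := by
    rw [ShortComplex.exact_iff_exact_up_to_refinements]
    intro T x hx
    change x ≫ hMap K n a = 0 at hx
    change T ⟶ kernel (pMap K n a) at x
    have hx' : (x ≫ kernel.ι (pMap K n a)) ≫ oMap K n a = 0 := by
      rw [Category.assoc, ← hMap_homologyι, ← Category.assoc, hx, zero_comp]
    obtain ⟨T₁, π₁, _, c, k, hck⟩ := (IsPushout.of_hasPushout a
      (K.d n (n + 1))).hom_eq_add_up_to_refinements (x ≫ kernel.ι (pMap K n a))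
    have hk : k ≫ K.pOpcycles (n + 1) = 0 := by
      have := hck =≫ oMap K n a
      simp only [Category.assoc, Preadditive.add_comp, inl_oMap, comp_zero, zero_add, inr_oMap] at this
      rw [← this]
      have h2 := π₁ ≫= hx'
      simpa using h2
    have hex : (ShortComplex.mk (K.d n (n + 1)) (K.pOpcycles (n + 1)) (by simp)).Exact :=
      ShortComplex.exact_of_g_is_cokernel _ (K.opcyclesIsCokernel n (n + 1) (by simp))
    obtain ⟨T₂, π₂, _, k', hk'⟩ := hex.exact_up_to_refinements k hk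
    dsimp at hk'
    refine ⟨T₂, π₂ ≫ π₁, inferInstance, (π₂ ≫ c + k' ≫ a) ≫ cokernel.π (gMap K n a ha), ?_⟩
    rw [← cancel_mono (kernel.ι (pMap K n a))]
    change ((π₂ ≫ π₁) ≫ x) ≫ kernel.ι (pMap K n a) =
      (((π₂ ≫ c + k' ≫ a) ≫ cokernel.π (gMap K n a ha)) ≫ fMap K n a ha) ≫ kernel.ι (pMap K n a)
    simp only [Category.assoc, π_fMap, hck, Preadditive.comp_add, Preadditive.add_comp,
      pushout.condition, reassoc_of% hk']
  mono_f := by
    change Mono (fMap K n a ha)
    apply Preadditive.mono_of_cancel_zero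
    intro T t ht
    obtain ⟨T₁, π₁, _, c, hc⟩ := surjective_up_to_refinements_of_epi (cokernel.π (gMap K n a ha)) t
    have h1 : c ≫ pushout.inl a (K.d n (n + 1)) = (0 : T₁ ⟶ _) ≫ pushout.inr a (K.d n (n + 1)) := by
      rw [← π_fMap K n a ha, ← reassoc_of% hc, reassoc_of% ht, zero_comp, zero_comp, comp_zero]
    obtain ⟨T₂, π₂, _, x, hx1, hx2⟩ := pushout_eq (IsPushout.of_hasPushout a (K.d n (n + 1))) c 0 h1
    rw [comp_zero] at hx2
    have h2 : π₂ ≫ c = (K.liftCycles x (n + 1) (by simp) hx2.symm ≫ K.homologyπ n) ≫ gMap K n a ha := by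
      rw [Category.assoc, homologyπ_gMap, HomologicalComplex.liftCycles_i_assoc, hx1]
    rw [← cancel_epi π₁, hc, comp_zero, ← cancel_epi π₂, reassoc_of% h2, cokernel.condition,
      comp_zero, comp_zero, comp_zero]
  epi_g := by
    change Epi (hMap K n a)
    rw [epi_iff_surjective_up_to_refinements]
    intro T h
    obtain ⟨T₁, π₁, _, z, hz⟩ := surjective_up_to_refinements_of_epi (K.homologyπ (n + 1)) h
    refine ⟨T₁, π₁, inferInstance, kernel.lift _ (z ≫ K.iCycles (n + 1) ≫
      pushout.inr a (K.d n (n + 1))) (by simp), ?_⟩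
    rw [← cancel_mono (K.homologyι (n + 1)), hz]
    simp

end SES

section Main

variable {A' : Type u'} [Category.{v'} A'] [Abelian A'] {A : Type u} [Category.{v} A] [Abelian A]
    (ι : A' ⥤ A) [ι.Additive] [PreservesFiniteLimits ι] [PreservesFiniteColimits ι] [ι.Full] [ι.Faithful]
    (K : CochainComplex A ℤ)

/-- The state in degree `n`. -/
structure State (n : ℤ) where
  /-- the object -/
  Y : A'
  /-- the cokernel of the previous differential -/
  C : A'
  /-- the projection -/
  q : Y ⟶ C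
  /-- the map from the complex -/
  f : K.X n ⟶ ι.obj Y
  inj : Injective (ι.obj Y)
  epi : Epi q
  zero : ∀ m, K.d m n ≫ f ≫ ι.map q = 0
  mono : ∀ ⦃T : A⦄ (z : T ⟶ K.X n), z ≫ K.d n (n + 1) = 0 → z ≫ f ≫ ι.map q = 0 →
    ∀ m, m + 1 = n → ∃ (T' : A) (π : T' ⟶ T) (_ : Epi π) (y : T' ⟶ K.X m), π ≫ z = y ≫ K.d m n

/-- The relation between consecutive states. -/
def R (n : ℤ) (s : State ι K n) (s' : State ι K (n + 1)) : Prop :=
  ∃ δ : s.C ⟶ s'.Y,
    s.f ≫ ι.map s.q ≫ ι.map δ = K.d n (n + 1) ≫ s'.f ∧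
    (∃ w : δ ≫ s'.q = 0, (ShortComplex.mk δ s'.q w).Exact) ∧
    ∀ ⦃T : A⦄ (t : T ⟶ ι.obj s.C), t ≫ ι.map δ = 0 →
      ∃ (T' : A) (π : T' ⟶ T) (_ : Epi π) (z : T' ⟶ K.X n),
        z ≫ K.d n (n + 1) = 0 ∧ π ≫ t = z ≫ s.f ≫ ι.map s.q

variable (hext : ∀ S : ShortComplex A, S.ShortExact → ι.essImage S.X₁ → ι.essImage S.X₃ → ι.essImage S.X₂)
    (hinj : ∀ X' : A', ∃ (Y' : A') (i : X' ⟶ Y'), Mono i ∧ Injective (ι.obj Y'))
    (hK : ∀ n, ι.essImage (K.homology n))

omit [ι.Faithful] in
include hext hinj hK in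
lemma exists_step (n : ℤ) (s : State ι K n) : ∃ s', R ι K n s s' := by
  let a : K.X n ⟶ ι.obj s.C := s.f ≫ ι.map s.q
  have ha : K.d (n - 1) n ≫ a = 0 := s.zero (n - 1)
  -- the kernel is in the essential image
  have hP : ι.essImage (kernel (pMap K n a)) :=
    hext _ (ses_shortExact K n a ha) (essImage_cokernel ι _ (hK n) ⟨s.C, ⟨Iso.refl _⟩⟩) (hK (n + 1))
  obtain ⟨X', ⟨e⟩⟩ := hP
  obtain ⟨Y', i, hi, hY'⟩ := hinj X'
  -- extension to the pushout
  obtain ⟨j, hj⟩ : ∃ j : pushout a (K.d n (n + 1)) ⟶ ι.obj Y',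
      kernel.ι (pMap K n a) ≫ j = e.inv ≫ ι.map i :=
    ⟨Injective.factorThru (e.inv ≫ ι.map i) (kernel.ι (pMap K n a)), Injective.comp_factorThru _ _⟩
  have hjm : ∀ ⦃T : A⦄ (x : T ⟶ pushout a (K.d n (n + 1))), x ≫ pMap K n a = 0 → x ≫ j = 0 → x = 0 := by
    intro T x hx1 hx2
    have h1 : kernel.lift _ x hx1 = 0 := by
      rw [← cancel_mono (e.inv ≫ ι.map i), ← hj, kernel.lift_ι_assoc, hx2, zero_comp]
    rw [← kernel.lift_ι _ x hx1, h1, zero_comp]
  let δ : s.C ⟶ Y' := ι.preimage (pushout.inl a (K.d n (n + 1)) ≫ j)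
  have hδ : ι.map δ = pushout.inl a (K.d n (n + 1)) ≫ j := by simp [δ]
  have hex : (ShortComplex.mk δ (cokernel.π δ) (cokernel.condition δ)).Exact :=
    ShortComplex.exact_cokernel δ
  have hex' : (ShortComplex.mk (ι.map δ) (ι.map (cokernel.π δ)) (by
      rw [← ι.map_comp, cokernel.condition, ι.map_zero])).Exact := hex.map ι
  refine ⟨{ Y := Y', C := cokernel δ, q := cokernel.π δ, f := pushout.inr a (K.d n (n + 1)) ≫ j
            inj := hY', epi := inferInstance, zero := ?_, mono := ?_ },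
    δ, ?_, ⟨cokernel.condition δ, hex⟩, ?_⟩
  · intro m
    by_cases hm : m + 1 = n + 1
    · obtain rfl : m = n := by lia
      have h1 := (pushout.condition (f := a) (g := K.d m (m + 1))) =≫ (j ≫ ι.map (cokernel.π δ))
      simp only [Category.assoc] at h1
      rw [Category.assoc, ← h1]
      have h2 : ι.map δ ≫ ι.map (cokernel.π δ) = 0 := by
        rw [← ι.map_comp, cokernel.condition, ι.map_zero]
      rw [hδ, Category.assoc] at h2
      rw [h2, comp_zero]
    · rw [K.shape _ _ hm, zero_comp]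
  · intro T z hz1 hz2 m hm
    obtain rfl : m = n := by lia
    obtain ⟨T₁, π₁, _, c, hc⟩ := hex'.exact_up_to_refinements (z ≫ pushout.inr a (K.d m (m + 1)) ≫ j)
      (by simpa using hz2)
    dsimp at hc
    rw [hδ] at hc
    have h0 : c ≫ pushout.inl a (K.d m (m + 1)) - (π₁ ≫ z) ≫ pushout.inr a (K.d m (m + 1)) = 0 := by
      apply hjm
      · rw [Preadditive.sub_comp, Category.assoc, Category.assoc, inl_pMap, inr_pMap, comp_zero,
          Category.assoc, zero_sub, neg_eq_zero]
        have : z ≫ K.d (m + 1) (m + 2) = 0 := by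
          have e : m + 1 + 1 = m + 2 := by lia
          rw [e] at hz1
          exact hz1
        rw [this, comp_zero]
      · rw [Preadditive.sub_comp, Category.assoc, Category.assoc, Category.assoc, ← hc, sub_self]
    obtain ⟨T₂, π₂, _, x, hx1, hx2⟩ := pushout_eq (IsPushout.of_hasPushout a (K.d m (m + 1))) c
      (π₁ ≫ z) (sub_eq_zero.1 h0)
    exact ⟨T₂, π₂ ≫ π₁, inferInstance, x, by rw [Category.assoc, hx2]⟩
  · dsimp
    rw [hδ, ← pushout.condition_assoc]
    simp [a]
  · intro T t ht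
    rw [hδ] at ht
    have h0 : t ≫ pushout.inl a (K.d n (n + 1)) = 0 := by
      apply hjm
      · rw [Category.assoc, inl_pMap, comp_zero]
      · rw [Category.assoc, ht]
    obtain ⟨T₂, π₂, _, x, hx1, hx2⟩ := pushout_eq (IsPushout.of_hasPushout a (K.d n (n + 1))) t
      (0 : T ⟶ _) (by rw [h0, zero_comp])
    exact ⟨T₂, π₂, inferInstance, x, by rw [← hx2, comp_zero], hx1⟩

/-- The zero state. -/
noncomputable def zeroState (n : ℤ) (Z : A') (hZ : IsZero Z) (hKn : IsZero (K.X n)) : State ι K n where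
  Y := Z
  C := Z
  q := 𝟙 Z
  f := 0
  inj := (ι.map_isZero hZ).injective
  epi := inferInstance
  zero m := by simp
  mono T z _ _ m _ := ⟨T, 𝟙 T, inferInstance, 0, hKn.eq_of_tgt _ _⟩

omit [ι.Faithful] in
include hext hinj hK in
lemma nonempty_state (a : ℤ) [K.IsStrictlyGE a] (n : ℤ) : Nonempty (State ι K n) := by
  obtain ⟨Z, hZ⟩ : ∃ Z : A', IsZero Z := ⟨_, isZero_zero _⟩
  by_cases hn : n < a
  · exact ⟨zeroState ι K n Z hZ (K.isZero_of_isStrictlyGE a n hn)⟩
  · refine Int.leInduction (m := a - 1) (motive := fun n _ => Nonempty (State ι K n)) ?_ ?_ n (by lia)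
    · exact ⟨zeroState ι K _ Z hZ (K.isZero_of_isStrictlyGE a (a - 1) (by lia))⟩
    · rintro k _ ⟨s⟩
      obtain ⟨s', -⟩ := exists_step ι K hext hinj hK k s
      exact ⟨s'⟩

omit [ι.Faithful] in
include hext hinj hK in
lemma exists_family (a : ℤ) [K.IsStrictlyGE a] :
    ∃ s : ∀ n, State ι K n, (∀ n, R ι K n (s n) (s (n + 1))) ∧ ∀ n < a, IsZero (s n).Y := by
  classical
  obtain ⟨Z, hZ⟩ : ∃ Z : A', IsZero Z := ⟨_, isZero_zero _⟩
  let s0 : ∀ n, State ι K n := fun n =>
    if h : n < a then zeroState ι K n Z hZ (K.isZero_of_isStrictlyGE a n h)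
    else (nonempty_state ι K hext hinj hK a n).some
  have h0 : ∀ n (h : n < a), s0 n = zeroState ι K n Z hZ (K.isZero_of_isStrictlyGE a n h) :=
    fun n h => dif_pos h
  obtain ⟨s, hs1, hs2⟩ := Groth.Agent.CohtopB.RelRes.exists_int_rec a s0 (R ι K) (fun n hn => by
    rw [h0 n (by lia), h0 (n + 1) hn]
    refine ⟨0, (K.isZero_of_isStrictlyGE a n (by lia)).eq_of_src _ _, ⟨zero_comp, ?_⟩, ?_⟩
    · exact ShortComplex.exact_of_isZero_X₂ _ hZ
    · intro T t _
      exact ⟨T, 𝟙 T, inferInstance, 0, by simp, (ι.map_isZero hZ).eq_of_tgt _ _⟩)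
    (fun n s => exists_step ι K hext hinj hK n s)
  refine ⟨s, hs1, fun n hn => ?_⟩
  rw [hs2 n hn, h0 n hn]
  exact hZ

omit [ι.Faithful] in
include hext hinj hK in
/-- Resolutions. -/
theorem exists_quasiIso (a : ℤ) [K.IsStrictlyGE a] :
    ∃ (I : CochainComplex A' ℤ) (f : K ⟶ (ι.mapHomologicalComplex (ComplexShape.up ℤ)).obj I),
      I.IsStrictlyGE a ∧ (∀ n, Injective (ι.obj (I.X n))) ∧ QuasiIso f := by
  obtain ⟨s, hs, hs0⟩ := exists_family ι K hext hinj hK a
  choose δ hδ1 hδ2 hδ3 using hs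
  let I : CochainComplex A' ℤ := CochainComplex.of (fun n => (s n).Y) (fun n => (s n).q ≫ δ n)
    (fun n => by
      obtain ⟨w, -⟩ := hδ2 n
      rw [Category.assoc, reassoc_of% w, zero_comp, comp_zero])
  have hId : ∀ n, I.d n (n + 1) = (s n).q ≫ δ n := fun n =>
    CochainComplex.of_d (fun n => (s n).Y) (fun n => (s n).q ≫ δ n) n
  let f : K ⟶ (ι.mapHomologicalComplex (ComplexShape.up ℤ)).obj I :=
    { f := fun n => (s n).f
      comm' := by
        rintro n _ rfl
        change (s n).f ≫ ι.map (I.d n (n + 1)) = K.d n (n + 1) ≫ (s (n + 1)).f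
        rw [hId, Functor.map_comp, hδ1] }
  refine ⟨I, f, ?_, fun n => (s n).inj, ?_⟩
  · rw [CochainComplex.isStrictlyGE_iff]
    exact fun n hn => hs0 n hn
  · rw [quasiIso_iff]
    intro n
    rw [quasiIsoAt_iff_isIso_homologyMap]
    obtain ⟨m, rfl⟩ : ∃ m, n = m + 1 := ⟨n - 1, by lia⟩
    have hi : (ComplexShape.up ℤ).prev (m + 1) = m := by simp
    have hj : (ComplexShape.up ℤ).next (m + 1) = m + 1 + 1 := by simp
    have h1 : Mono (HomologicalComplex.homologyMap f (m + 1)) := by
      rw [HomologicalComplex.mono_homologyMap_iff_up_to_refinements f _ _ _ hi hj]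
      intro T x hx y hxy
      refine (s (m + 1)).mono x hx ?_ m rfl
      have hxy' : x ≫ (s (m + 1)).f = y ≫ ι.map ((s m).q ≫ δ m) := by
        rw [← hId m]
        exact hxy
      obtain ⟨w, -⟩ := hδ2 m
      rw [reassoc_of% hxy', ← ι.map_comp, Category.assoc, w, comp_zero, ι.map_zero, comp_zero]
    have h2 : Epi (HomologicalComplex.homologyMap f (m + 1)) := by
      rw [HomologicalComplex.epi_homologyMap_iff_up_to_refinements f _ _ _ hi hj]
      intro T y hy
      have hy' : (y ≫ ι.map (s (m + 1)).q) ≫ ι.map (δ (m + 1)) = 0 := by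
        rw [Category.assoc, ← ι.map_comp, ← hId (m + 1)]
        exact hy
      change T ⟶ ι.obj (s (m + 1)).Y at y
      obtain ⟨T₁, π₁, _, z, hz1, hz2⟩ := hδ3 (m + 1) _ hy'
      obtain ⟨w, hw⟩ := hδ2 m
      have hw' : (ShortComplex.mk (ι.map (δ m)) (ι.map (s (m + 1)).q) (by
        rw [← ι.map_comp, w, ι.map_zero])).Exact := hw.map ι
      obtain ⟨T₂, π₂, _, x, hx⟩ := hw'.exact_up_to_refinements (π₁ ≫ y - z ≫ (s (m + 1)).f) (by
        dsimp
        rw [Preadditive.sub_comp, Category.assoc, hz2, Category.assoc, sub_self])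
      have := (s m).epi
      obtain ⟨T₃, π₃, _, x', hx'⟩ := surjective_up_to_refinements_of_epi (ι.map (s m).q) x
      refine ⟨T₃, π₃ ≫ π₂ ≫ π₁, inferInstance, π₃ ≫ π₂ ≫ z, by simp [hz1], x', ?_⟩
      have e1 : ((ι.mapHomologicalComplex (ComplexShape.up ℤ)).obj I).d m (m + 1) =
          ι.map (s m).q ≫ ι.map (δ m) := by
        rw [← ι.map_comp, ← hId m]
        rfl
      rw [e1]
      dsimp at hx hx'
      rw [← reassoc_of% hx', ← hx]
      change _ = (π₃ ≫ π₂ ≫ z) ≫ (s (m + 1)).f + _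
      simp only [Category.assoc, Preadditive.comp_sub]
      abel
    exact isIso_of_mono_of_epi _

end Main

end K236.ExtRes
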