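import Mathlib.Algebra.Homology.DerivedCategory.KInjective
import Mathlib.Algebra.Homology.DerivedCategory.TStructure
import Mathlib.Algebra.Homology.HomotopyCategory.HomComplexSingle
import Mathlib.Algebra.Homology.HomotopyCategory.HomComplexCohomology
import Mathlib.Algebra.Homology.Factorizations.CM5a
import Mathlib.Algebra.Homology.ShortComplex.ShortExact

/-!
# Morphisms from `Y[0]` to K-injective complexes, and bounded complexes of injectives

* `exists_lift`: if all morphisms `Y[0] ⟶ (Q J)[i]` vanish, then every map from `Y` to the cycles of `J` in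
  degree `i` lifts to `J.X (i - 1)`;
* `exists_bounded`: if all morphisms `Y[0] ⟶ (Q J)[i]` vanish for `i > b` and `J` is a K-injective complex
  with injective terms, then `Q J` is isomorphic to a complex of injectives, zero in degrees `> b`.
-/

set_option autoImplicit false

universe w v u

open CategoryTheory CategoryTheory.Limits CochainComplex CochainComplex.HomComplex

namespace K236.InjAmp

variable {C : Type u} [Category.{v} C] [Abelian C]

section

variable [HasDerivedCategory.{w} C]

lemma Q_map_eq_zero_iff {K J : CochainComplex C ℤ} [J.IsKInjective] (f : K ⟶ J) :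
    DerivedCategory.Q.map f = 0 ↔ (HomotopyCategory.quotient C (.up ℤ)).map f = 0 := by
  constructor
  · intro h
    apply (IsKInjective.Qh_map_bijective _ J).1
    rw [← cancel_mono ((DerivedCategory.quotientCompQhIso C).hom.app J),
      DerivedCategory.quotientCompQhIso_hom_naturality, h, Functor.map_zero, comp_zero, zero_comp]
  · intro h
    rw [← cancel_mono ((DerivedCategory.quotientCompQhIso C).inv.app J),
      DerivedCategory.quotientCompQhIso_inv_naturality, h, Functor.map_zero, comp_zero, zero_comp]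

lemma exists_Q_map_eq {K J : CochainComplex C ℤ} [J.IsKInjective]
    (g : DerivedCategory.Q.obj K ⟶ DerivedCategory.Q.obj J) :
    ∃ f : K ⟶ J, DerivedCategory.Q.map f = g := by
  obtain ⟨f', hf'⟩ := (IsKInjective.Qh_map_bijective _ J).2
    ((DerivedCategory.quotientCompQhIso C).hom.app K ≫ g ≫
      (DerivedCategory.quotientCompQhIso C).inv.app J)
  obtain ⟨f, rfl⟩ := (HomotopyCategory.quotient C (.up ℤ)).map_surjective f'
  refine ⟨f, ?_⟩
  rw [← cancel_mono ((DerivedCategory.quotientCompQhIso C).inv.app J),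
      DerivedCategory.quotientCompQhIso_inv_naturality, hf']
  simp

/-- An isomorphism `Q K ≅ Q J` with `J` K-injective comes from a quasi-isomorphism `K ⟶ J`. -/
lemma exists_quasiIso_of_iso_Q {K J : CochainComplex C ℤ} [J.IsKInjective]
    (e : DerivedCategory.Q.obj K ≅ DerivedCategory.Q.obj J) :
    ∃ j : K ⟶ J, QuasiIso j ∧ DerivedCategory.Q.map j = e.hom := by
  obtain ⟨j, hj⟩ := exists_Q_map_eq e.hom
  have : IsIso (DerivedCategory.Q.map j) := by
    rw [hj]
    infer_instance
  exact ⟨j, by rwa [← DerivedCategory.isIso_Q_map_iff_quasiIso], hj⟩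

lemma mem_coboundaries_iff_Q {K I : CochainComplex C ℤ} [I.IsKInjective] {n : ℤ}
    (x : Cocycle K I n) :
    x ∈ coboundaries K I n ↔ DerivedCategory.Q.map (Cocycle.equivHomShift.symm x) = 0 := by
  rw [← CohomologyClass.toHom_mk_eq_zero_iff, CohomologyClass.toHom_mk, Q_map_eq_zero_iff]

/-- Vanishing of `Hom(Y[0], (Q J)[i])` and lifts of cycles. -/
lemma exists_lift (J : CochainComplex C ℤ) [J.IsKInjective] (Y : C) (i i' : ℤ) (hi' : i' + 1 = i)
    (h : ∀ φ : (DerivedCategory.singleFunctor C 0).obj Y ⟶ (DerivedCategory.Q.obj J)⟦i⟧, φ = 0)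
    (f : Y ⟶ J.X i) (hf : f ≫ J.d i (i + 1) = 0) : ∃ g : Y ⟶ J.X i', g ≫ J.d i' i = f := by
  let z := Cocycle.fromSingleMk f (zero_add i) (i + 1) rfl hf
  have hz : z ∈ coboundaries _ J i := by
    rw [mem_coboundaries_iff_Q]
    have h1 := h ((DerivedCategory.singleFunctorIsoCompQ C 0).hom.app Y ≫
      DerivedCategory.Q.map (Cocycle.equivHomShift.symm z) ≫
        (DerivedCategory.Q.commShiftIso i).hom.app J)
    rw [← cancel_epi ((DerivedCategory.singleFunctorIsoCompQ C 0).hom.app Y),
      ← cancel_mono ((DerivedCategory.Q.commShiftIso i).hom.app J), Category.assoc]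
    refine h1.trans ?_
    rw [comp_zero, zero_comp]
  rw [Cocycle.fromSingleMk_mem_coboundaries_iff _ _ _ _ _ i' hi'] at hz
  exact hz

/-- `Hom(Y[0], (Q J)[i])` vanishes if `J.X i` does. -/
lemma eq_zero_of_isZero (J : CochainComplex C ℤ) [J.IsKInjective] (Y : C) (i : ℤ) (hJ : IsZero (J.X i))
    (φ : (DerivedCategory.singleFunctor C 0).obj Y ⟶ (DerivedCategory.Q.obj J)⟦i⟧) : φ = 0 := by
  obtain ⟨ψ, hψ⟩ := exists_Q_map_eq ((DerivedCategory.singleFunctorIsoCompQ C 0).inv.app Y ≫ φ ≫
    (DerivedCategory.Q.commShiftIso i).inv.app J)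
  have h0 : ψ = 0 := by
    apply HomologicalComplex.from_single_hom_ext
    apply IsZero.eq_of_tgt
    change IsZero (J.X (0 + i))
    rw [zero_add]
    exact hJ
  rw [h0, Functor.map_zero] at hψ
  rw [← cancel_mono ((DerivedCategory.Q.commShiftIso i).inv.app J),
    ← cancel_epi ((DerivedCategory.singleFunctorIsoCompQ C 0).inv.app Y), ← hψ, zero_comp, comp_zero]

end

/-- Exactness from a splitting. -/
lemma exactAt_of_lift (J : CochainComplex C ℤ) (i i' : ℤ)
    (g : J.cycles i ⟶ J.X i') (hg : g ≫ J.d i' i = J.iCycles i) : J.ExactAt i := by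
  have h1 : g ≫ J.toCycles i' i = 𝟙 _ := by
    rw [← cancel_mono (J.iCycles i), Category.assoc, HomologicalComplex.toCycles_i, hg,
      Category.id_comp]
  have h2 : J.homologyπ i = 0 := by
    rw [← Category.id_comp (J.homologyπ i), ← h1, Category.assoc,
      HomologicalComplex.toCycles_comp_homologyπ, comp_zero]
  rw [HomologicalComplex.exactAt_iff_isZero_homology, IsZero.iff_id_eq_zero,
    ← cancel_epi (J.homologyπ i), h2, zero_comp, zero_comp]

/-- The cycles are a retract of the term if the next cycles lift. -/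
lemma injective_cycles (J : CochainComplex C ℤ) (n m : ℤ) (hm : n + 1 = m) [Injective (J.X n)]
    (g : J.cycles m ⟶ J.X n) (hg : g ≫ J.d n m = J.iCycles m) : Injective (J.cycles n) := by
  let r : J.X n ⟶ J.cycles n := J.liftCycles (𝟙 _ - J.toCycles n m ≫ g) m (by simp; lia) (by
    rw [Preadditive.sub_comp, Category.assoc, hg, HomologicalComplex.toCycles_i, Category.id_comp,
      sub_self])
  have hr : J.iCycles n ≫ r = 𝟙 _ := by
    have h0 : J.iCycles n ≫ J.toCycles n m = 0 := by
      rw [← cancel_mono (J.iCycles m), Category.assoc, HomologicalComplex.toCycles_i,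
        HomologicalComplex.iCycles_d, zero_comp]
    rw [← cancel_mono (J.iCycles n), Category.assoc, HomologicalComplex.liftCycles_i,
      Preadditive.comp_sub, reassoc_of% h0, zero_comp, sub_zero, Category.comp_id, Category.id_comp]
  constructor
  intro X Y a f _
  obtain ⟨b, hb⟩ := Injective.factors (a ≫ J.iCycles n) f
  exact ⟨b ≫ r, by rw [← Category.assoc, hb, Category.assoc, hr, Category.comp_id]⟩

/-- A lower bound for `truncLE`. -/
lemma isStrictlyGE_truncLE (J : CochainComplex C ℤ) (a b : ℤ) [J.IsStrictlyGE a] :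
    (J.truncLE b).IsStrictlyGE a := by
  rw [isStrictlyGE_iff]
  intro n hn
  obtain h | rfl | h := lt_trichotomy n b
  · exact (J.isZero_of_isStrictlyGE a n hn).of_iso (J.truncLEXIso b n h)
  · exact (IsZero.of_mono (J.iCycles n) (J.isZero_of_isStrictlyGE a n hn)).of_iso
      (J.truncLEXIsoCycles n)
  · exact (J.truncLE b).isZero_of_isStrictlyLE b n h

variable [HasDerivedCategory.{w} C]

/-- From the vanishing of `Hom(Y[0], (Q J)[i])` for `i > b`, get a complex of injectives zero in
degrees `> b`. -/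
theorem exists_bounded (J : CochainComplex C ℤ) [J.IsKInjective] (hJ : ∀ n, Injective (J.X n)) (b : ℤ)
    (h : ∀ (Y : C) (i : ℤ), b < i →
      ∀ φ : (DerivedCategory.singleFunctor C 0).obj Y ⟶ (DerivedCategory.Q.obj J)⟦i⟧, φ = 0) :
    QuasiIso (J.ιTruncLE b) ∧ ∀ n, Injective ((J.truncLE b).X n) := by
  have key : ∀ i : ℤ, b < i → ∃ g : J.cycles i ⟶ J.X (i - 1), g ≫ J.d (i - 1) i = J.iCycles i :=
    fun i hi => exists_lift J _ i (i - 1) (by lia) (h _ i hi) (J.iCycles i)
      (J.iCycles_d i (i + 1))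
  have hLE : J.IsLE b := by
    rw [CochainComplex.isLE_iff]
    intro i hi
    obtain ⟨g, hg⟩ := key i hi
    exact exactAt_of_lift J i (i - 1) g hg
  refine ⟨inferInstance, fun n => ?_⟩
  obtain h | rfl | h := lt_trichotomy n b
  · exact Injective.of_iso (J.truncLEXIso b n h).symm (hJ n)
  · obtain ⟨g, hg⟩ := key (n + 1) (by lia)
    have : Injective (J.cycles n) := by
      have e : n + 1 - 1 = n := by lia
      revert g
      rw [e]
      intro g hg
      exact injective_cycles J n (n + 1) rfl g hg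
    exact Injective.of_iso (J.truncLEXIsoCycles n).symm this
  · exact ((J.truncLE b).isZero_of_isStrictlyLE b n h).injective

/-- Bounded below objects of the derived category with bounded injective amplitude. -/
theorem exists_bounded_injective [EnoughInjectives C] (X : DerivedCategory C) (a b : ℤ) [X.IsGE a]
    (h : ∀ (Y : C) (i : ℤ), b < i →
      ∀ φ : (DerivedCategory.singleFunctor C 0).obj Y ⟶ X⟦i⟧, φ = 0) :
    ∃ I : CochainComplex C ℤ, I.IsStrictlyGE a ∧ I.IsStrictlyLE b ∧ (∀ n : ℤ, Injective (I.X n)) ∧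
      Nonempty (X ≅ DerivedCategory.Q.obj I) := by
  obtain ⟨K, hK, ⟨e⟩⟩ := X.exists_iso_Q_obj_of_isGE a
  obtain ⟨J, ι, h1, h3, h2⟩ :=
    CochainComplex.Plus.modelCategoryQuillen.exists_quasiIso_injective K a
  have h4 : J.IsKInjective := isKInjective_of_injective J a
  have h5 : ∀ (Y : C) (i : ℤ), b < i →
      ∀ φ : (DerivedCategory.singleFunctor C 0).obj Y ⟶ (DerivedCategory.Q.obj J)⟦i⟧, φ = 0 := by
    intro Y i hi φ
    rw [← cancel_mono (((e ≪≫ asIso (DerivedCategory.Q.map ι)).inv)⟦i⟧'), zero_comp]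
    exact h Y i hi _
  obtain ⟨h6, h7⟩ := exists_bounded J h3 b h5
  exact ⟨J.truncLE b, isStrictlyGE_truncLE J a b, inferInstance, h7,
    ⟨e ≪≫ asIso (DerivedCategory.Q.map ι) ≪≫ (asIso (DerivedCategory.Q.map (J.ιTruncLE b))).symm⟩⟩

/-- Vanishing for bounded complexes of injectives. -/
theorem eq_zero_of_bounded_injective (I : CochainComplex C ℤ) (a b : ℤ) [I.IsStrictlyGE a]
    [I.IsStrictlyLE b] (hI : ∀ n : ℤ, Injective (I.X n)) (X : DerivedCategory C)
    (e : X ≅ DerivedCategory.Q.obj I) (Y : C) (i : ℤ) (hi : b < i)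
    (φ : (DerivedCategory.singleFunctor C 0).obj Y ⟶ X⟦i⟧) : φ = 0 := by
  have h4 : I.IsKInjective := isKInjective_of_injective I a
  rw [← cancel_mono (e.hom⟦i⟧'), zero_comp]
  exact eq_zero_of_isZero I Y i (I.isZero_of_isStrictlyLE b i hi) _

end K236.InjAmp
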