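import Mathlib.CategoryTheory.Abelian.GrothendieckCategory.Basic
import Mathlib.CategoryTheory.Abelian.GrothendieckCategory.Subobject
import Mathlib.CategoryTheory.Subobject.NoetherianObject
import Mathlib.CategoryTheory.Limits.Preserves.Filtered
import Mathlib.CategoryTheory.Limits.Preserves.Finite
import Mathlib.CategoryTheory.Adjunction.Basic
import Mathlib.CategoryTheory.Adjunction.Additive
import Mathlib.CategoryTheory.Functor.ReflectsIso.Balanced
import Mathlib.CategoryTheory.Generator.Abelian
import Groth.Agent.Sga5.NoethObj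

/-!
# Faithful exact functors with a right adjoint commuting with filtered colimits
-/

set_option autoImplicit false
universe w v u u₁ u₂
open CategoryTheory CategoryTheory.Limits

namespace K236.LeftAdj

/-! ### The map on subobjects -/

section Sub

variable {A : Type u₁} [Category.{w} A] [Abelian A] {B : Type u₂} [Category.{w} B] [Abelian B]
  (F : A ⥤ B) [F.PreservesZeroMorphisms] [F.Faithful] [PreservesFiniteLimits F]

/-- The map on subobjects. -/
noncomputable def mapSub {x : A} (P : Subobject x) : Subobject (F.obj x) :=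
  Subobject.mk (F.map P.arrow)

lemma mapSub_le_iff {x : A} (P Q : Subobject x) : mapSub F P ≤ mapSub F Q ↔ P ≤ Q := by
  constructor
  · intro h
    have h1 : F.map (P.arrow ≫ cokernel.π Q.arrow) = F.map 0 := by
      rw [Functor.map_comp, ← Subobject.ofMkLEMk_comp h, Category.assoc, ← Functor.map_comp,
        cokernel.condition, Functor.map_zero, Functor.map_zero, comp_zero]
    have h2 : P.arrow ≫ cokernel.π Q.arrow = 0 := F.map_injective h1
    exact Subobject.le_of_comm (Abelian.monoLift Q.arrow P.arrow h2) (Abelian.monoLift_comp _ _ _)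
  · intro h
    refine Subobject.mk_le_mk_of_comm (F.map (Subobject.ofLE P Q h)) ?_
    rw [← Functor.map_comp, Subobject.ofLE_arrow]

lemma mapSub_injective (x : A) : Function.Injective (mapSub F (x := x)) := by
  intro P Q h
  exact le_antisymm ((mapSub_le_iff F P Q).1 h.le) ((mapSub_le_iff F Q P).1 h.ge)

/-- A faithful exact functor reflects noetherian objects. -/
lemma isNoetherianObject_of_obj (x : A) [IsNoetherianObject (F.obj x)] : IsNoetherianObject x :=
  Groth.Agent.Sga5.NoethObj.noeth_of_strictMono (mapSub F)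
    (fun _ _ h => (mapSub_le_iff F _ _).2 h) (fun _ _ _ h => mapSub_injective F x h)

include F in
lemma wellPowered [WellPowered.{w} B] : WellPowered.{w} A where
  subobject_small x := small_of_injective (mapSub_injective F x)

end Sub

/-! ### AB5 -/

section AB5

variable {A : Type u₁} [Category.{w} A] [Abelian A] [HasColimitsOfSize.{w, w} A]
  {B : Type u₂} [Category.{w} B] [Abelian B] [HasColimitsOfSize.{w, w} B] [AB5OfSize.{w, w} B]
  (F : A ⥤ B) (G : B ⥤ A) (adj : F ⊣ G) [F.Faithful] [PreservesFiniteLimits F]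

omit [Abelian B] in
include adj in
lemma ab5 : AB5OfSize.{w, w} A where
  ofShape J _ _ := by
    have := adj.leftAdjoint_preservesColimits
    have : ReflectsFiniteLimits F := ⟨fun _ _ _ => reflectsLimitsOfShape_of_reflectsIsomorphisms⟩
    exact HasExactColimitsOfShape.domain_of_functor J F

end AB5

/-! ### The main argument -/

section Core

variable {A : Type u₁} [Category.{w} A] [Abelian A] [HasColimitsOfSize.{w, w} A] [AB5OfSize.{w, w} A]
  {B : Type u₂} [Category.{w} B] [Abelian B]

/-- pullback of a filtered colimit -/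
lemma eq_zero_of_pullback {J : Type w} [SmallCategory J] [IsFiltered J]
    (D : J ⥤ A) (c : Cocone D) (hc : IsColimit c) {a a' : A} (η : a ⟶ c.pt) (f : a ⟶ a')
    (hf : ∀ j, pullback.snd (c.ι.app j) η ≫ f = 0) : f = 0 := by
  have := IsFiltered.isConnected J
  let α : D ⟶ (Functor.const J).obj c.pt := c.ι
  let β : (Functor.const J).obj a ⟶ (Functor.const J).obj c.pt := (Functor.const J).map η
  have hP := IsPullback.of_hasPullback α β
  have hα : IsIso (colim.map α) := by
    let e₁ : colimit D ≅ c.pt := (colimit.isColimit D).coconePointUniqueUpToIso hc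
    let e₂ : colimit ((Functor.const J).obj c.pt) ≅ c.pt :=
      (colimit.isColimit _).coconePointUniqueUpToIso (isColimitConstCocone J c.pt)
    have he₁ : ∀ j, colimit.ι D j ≫ e₁.hom = c.ι.app j := fun j =>
      (colimit.isColimit D).comp_coconePointUniqueUpToIso_hom hc j
    have he₂ : ∀ j, colimit.ι ((Functor.const J).obj c.pt) j ≫ e₂.hom = 𝟙 _ := fun j =>
      (colimit.isColimit _).comp_coconePointUniqueUpToIso_hom (isColimitConstCocone J c.pt) j
    have h1 : colim.map α = (e₁ ≪≫ e₂.symm).hom := by
      apply colimit.hom_ext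
      intro j
      have h2 : colimit.ι D j ≫ colim.map α = α.app j ≫ colimit.ι _ j := by simp
      rw [h2, Iso.trans_hom, reassoc_of% (he₁ j), Iso.symm_hom, ← cancel_mono e₂.hom,
        Category.assoc, Category.assoc, Iso.inv_hom_id]
      simp [he₂, α]
    rw [h1]
    infer_instance
  have hP' := hP.map (colim : (J ⥤ A) ⥤ A)
  have h2 : IsIso (colim.map (pullback.snd α β)) := hP'.isIso_snd_of_isIso
  have h3 : pullback.snd α β ≫ (Functor.const J).map f = 0 := by
    ext j
    have h4 : (pullback.snd α β).app j ≫ f = 0 := by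
      have hPj := hP.map ((evaluation J A).obj j)
      have h5 := hf j
      have h6 : (pullback.snd α β).app j =
          pullback.lift ((pullback.fst α β).app j) ((pullback.snd α β).app j) hPj.w ≫
            pullback.snd (c.ι.app j) η := by
        exact (pullback.lift_snd _ _ _).symm
      rw [h6, Category.assoc, h5, comp_zero]
    simpa using h4
  have h4 : colim.map (pullback.snd α β) ≫ colim.map ((Functor.const J).map f) = 0 := by
    rw [← Functor.map_comp, h3]
    exact colim.map_zero _ _
  have h5 : colim.map ((Functor.const J).map f) = (0 : colim.obj ((Functor.const J).obj a) ⟶ _) := by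
    rw [← cancel_epi (colim.map (pullback.snd α β)), h4, comp_zero]
  have h6 := congrArg (fun g => colimit.ι ((Functor.const J).obj a) (Classical.arbitrary J) ≫ g ≫
    (colimit.isoColimitCocone ⟨_, isColimitConstCocone J a'⟩).hom) h5
  simp at h6
  rw [← Category.comp_id f]
  exact h6

end Core

/-! ### Families of generators -/

section Family

variable {B : Type u₂} [Category.{w} B] [Abelian B] [HasColimitsOfSize.{w, w} B] {ι : Type w} (s : ι → B)

/-- The family `s` is separating. -/
def Sep : Prop := ∀ ⦃X Y : B⦄ (f g : X ⟶ Y), (∀ (i : ι) (h : s i ⟶ X), h ≫ f = h ≫ g) → f = g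

variable {s} in
lemma isGrothendieckAbelian_of_sep [AB5OfSize.{w, w} B] (hs : Sep s) :
    IsGrothendieckAbelian.{w} B where
  hasFilteredColimitsOfSize := inferInstance
  hasSeparator := ⟨∐ s, (isSeparator_sigma s).2 (fun X Y f g h => hs f g (fun i a => h _ ⟨i⟩ a))⟩

/-- The map from a finite sum of copies of the `s i` attached to a finite set of morphisms. -/
noncomputable def finMap (y : B) (t : Finset (Σ i, (s i ⟶ y))) : ∐ (fun p : t => s p.1.1) ⟶ y :=
  Sigma.desc (fun p => p.1.2)

/-- The image of `finMap`. -/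
noncomputable def finSub (y : B) (t : Finset (Σ i, (s i ⟶ y))) : Subobject y :=
  imageSubobject (finMap s y t)

lemma factors_finSub (y : B) (t : Finset (Σ i, (s i ⟶ y))) (p : Σ i, (s i ⟶ y)) (hp : p ∈ t) :
    (finSub s y t).Factors p.2 := by
  have h3 : p.2 = Sigma.ι (fun p : t => s p.1.1) ⟨p, hp⟩ ≫ finMap s y t := by
    rw [finMap, Sigma.ι_desc]
  rw [h3]
  exact imageSubobject_factors_comp_self (finMap s y t) _

lemma finSub_mono (y : B) : Monotone (finSub s y) := by
  intro t t' h
  let a : ∐ (fun p : t => s p.1.1) ⟶ ∐ (fun p : t' => s p.1.1) :=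
    Sigma.desc (fun p : t => Sigma.ι (fun p : t' => s p.1.1) ⟨p.1, h p.2⟩)
  have h1 : a ≫ finMap s y t' = finMap s y t := by
    apply Sigma.hom_ext
    intro p
    simp [finMap, a]
  have h2 := imageSubobject_comp_le a (finMap s y t')
  rw [finSub, finSub]
  convert h2
  exact h1.symm

variable {s} in
lemma eq_top_of_finSub_le (hs : Sep s) (y : B) (P : Subobject y) (hP : ∀ t, finSub s y t ≤ P) :
    P = ⊤ := by
  classical
  have h1 : Epi P.arrow := by
    apply Preadditive.epi_of_cancel_zero
    intro Z u hu
    apply hs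
    intro i h
    rw [comp_zero]
    obtain ⟨p, hp1, hp2⟩ : ∃ p : (Σ i, (s i ⟶ y)), p = ⟨i, h⟩ ∧ P.Factors p.2 := by
      refine ⟨_, rfl, ?_⟩
      generalize (⟨i, h⟩ : (Σ i, (s i ⟶ y))) = p
      exact Subobject.factors_of_le _ (hP {p}) (factors_finSub s y {p} p (Finset.mem_singleton_self p))
    subst hp1
    have h3 : P.Factors h := hp2
    rw [← Subobject.factorThru_arrow _ _ h3, Category.assoc, hu, comp_zero]
  have : IsIso P.arrow := isIso_of_mono_of_epi _
  exact Subobject.eq_top_of_isIso_arrow _

variable {s} in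
lemma iSup_finSub [IsGrothendieckAbelian.{w} B] (hs : Sep s) (y : B) : ⨆ t, finSub s y t = ⊤ :=
  eq_top_of_finSub_le hs y _ (fun t => le_iSup (finSub s y) t)

omit [HasColimitsOfSize.{w, w} B] in
/-- A quotient is the cokernel of a subobject. -/
lemma exists_iso_cokernel {E b : B} (e : E ⟶ b) [Epi e] :
    ∃ K : Subobject E, Nonempty (b ≅ cokernel K.arrow) := by
  refine ⟨Subobject.mk (kernel.ι e), ⟨?_⟩⟩
  have h1 : IsColimit (CokernelCofork.ofπ e (kernel.condition e)) :=
    (ShortComplex.exact_kernel e).gIsCokernel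
  have e1 : b ≅ cokernel (kernel.ι e) :=
    (IsColimit.coconePointUniqueUpToIso h1 (cokernelIsCokernel (kernel.ι e)) :)
  have e2 : cokernel (Subobject.mk (kernel.ι e)).arrow ≅ cokernel (kernel.ι e) :=
    cokernelIsoOfEq (Subobject.underlyingIso_hom_comp_eq_mk _).symm ≪≫
      cokernelEpiComp (Subobject.underlyingIso (kernel.ι e)).hom (kernel.ι e)
  exact e1 ≪≫ e2.symm

/-- Finite sums of noetherian objects are noetherian. -/
lemma isNoetherianObject_sigma {K : Type} [Finite K] (f : K → B) [∀ k, IsNoetherianObject (f k)] :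
    IsNoetherianObject (∐ f) := by
  classical
  have := Fintype.ofFinite K
  let P := Finset.univ.sup (fun k => imageSubobject (Sigma.ι f k))
  have hP : IsNoetherianObject (P : B) :=
    Groth.Agent.Sga5.NoethObj.isNoetherianObject_finset_sup _ _
      (fun i _ => Groth.Agent.Sga5.NoethObj.isNoetherianObject_image _)
  have h1 : Epi P.arrow := by
    apply Preadditive.epi_of_cancel_zero
    intro Z u hu
    apply Sigma.hom_ext
    intro k
    have h2 : P.Factors (Sigma.ι f k) := by
      refine Subobject.factors_of_le _ (Finset.le_sup (f := fun k => imageSubobject (Sigma.ι f k))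
        (Finset.mem_univ k)) ?_
      have := imageSubobject_factors_comp_self (Sigma.ι f k) (𝟙 _)
      simpa using this
    rw [← Subobject.factorThru_arrow _ _ h2, Category.assoc, hu, comp_zero, comp_zero]
  exact Groth.Agent.Sga5.NoethObj.isNoetherianObject_of_epi P.arrow

end Family

/-! ### The small family in `A` -/

section Main

variable {A : Type u₁} [Category.{w} A] [Abelian A] [HasColimitsOfSize.{w, w} A]
  {B : Type u₂} [Category.{w} B] [Abelian B] [IsGrothendieckAbelian.{w} B] {ι : Type w} {s : ι → B}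
  (hs : Sep s)
  (F : A ⥤ B) (G : B ⥤ A) (adj : F ⊣ G) [F.PreservesZeroMorphisms] [F.Faithful]
  [PreservesFiniteLimits F] [PreservesFilteredColimitsOfSize.{w, w} G]

/-- The functor `t ↦ finSub s y t`. -/
noncomputable def finFun (s : ι → B) (y : B) : Finset (Σ i, (s i ⟶ y)) ⥤ MonoOver y where
  obj t := MonoOver.mk (finSub s y t).arrow
  map {_ _} h := MonoOver.homMk (Subobject.ofLE _ _ (finSub_mono s y (leOfHom h)))
    (Subobject.ofLE_arrow _)
  map_id _ := Subsingleton.elim _ _
  map_comp _ _ := Subsingleton.elim _ _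

/-- The cocone of the `finSub s y t`. -/
noncomputable def finCocone (s : ι → B) (y : B) : Cocone (finFun s y ⋙ MonoOver.forget y) where
  pt := Over.mk (𝟙 y)
  ι := { app t := Over.homMk (finSub s y t).arrow (Category.comp_id _)
         naturality t t' f := by
          ext
          change Subobject.ofLE _ _ (finSub_mono s y (leOfHom f)) ≫ (finSub s y t').arrow = (finSub s y t).arrow ≫ 𝟙 _
          rw [Subobject.ofLE_arrow, Category.comp_id] }

include hs in
lemma nonempty_isColimit (y : B) :
    Nonempty (IsColimit ((Over.forget _).mapCocone (finCocone s y))) := by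
  have : Mono (finCocone s y).pt.hom := by
    dsimp [finCocone]
    infer_instance
  refine ⟨IsGrothendieckAbelian.isColimitMapCoconeOfSubobjectMkEqISup (finFun s y) (finCocone s y) ?_⟩
  have h1 : ∀ t, Subobject.mk ((finFun s y).obj t).obj.hom = finSub s y t := fun t =>
    Subobject.mk_arrow _
  have h2 : Subobject.mk (finCocone s y).pt.hom = ⊤ := by
    rw [← Subobject.isIso_iff_mk_eq_top]
    dsimp [finCocone]
    infer_instance
  rw [h2, ← iSup_finSub hs y]
  exact iSup_congr (fun t => (h1 t).symm)

omit [F.PreservesZeroMorphisms] [PreservesFiniteLimits F] in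
include hs adj in
/-- The local statement. -/
lemma exists_sub [AB5OfSize.{w, w} A] (X Y : A) (f : X ⟶ Y) (hf : f ≠ 0) :
    ∃ (x : A) (p : x ⟶ X) (t : Finset (Σ i, (s i ⟶ F.obj X)))
      (q : x ⟶ G.obj (finSub s (F.obj X) t : B)),
      Mono p ∧ Mono q ∧ p ≫ f ≠ 0 ∧ q ≫ G.map (finSub s (F.obj X) t).arrow = p ≫ adj.unit.app X := by
  obtain ⟨hc⟩ := nonempty_isColimit hs (F.obj X)
  have : PreservesLimitsOfSize.{0, 0} G := adj.rightAdjoint_preservesLimits
  have hη : Mono (adj.unit.app X) := inferInstance
  by_contra hcon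
  apply hf
  have hc' := isColimitOfPreserves G hc
  refine eq_zero_of_pullback _ _ hc' (adj.unit.app X) f (fun t => ?_)
  by_contra ht
  apply hcon
  have hm : Mono (G.map (finSub s (F.obj X) t).arrow) := inferInstance
  exact ⟨pullback (G.map (finSub s (F.obj X) t).arrow) (adj.unit.app X),
    pullback.snd _ _, t, pullback.fst _ _, inferInstance, inferInstance, ht, pullback.condition⟩

/-- The index type of the small family. -/
abbrev Idx (s : ι → B) (G : B ⥤ A) [WellPowered.{w} A] : Type w :=
  Σ (n : ℕ) (i : Fin n → ι) (K : Shrink.{w} (Subobject (∐ fun k => s (i k)))),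
    Shrink.{w} (Subobject (G.obj (cokernel ((equivShrink.{w} _).symm K).arrow)))

/-- The small family. -/
noncomputable def fam (s : ι → B) (G : B ⥤ A) [WellPowered.{w} A] (k : Idx s G) : A :=
  (((equivShrink.{w} _).symm k.2.2.2 :
    Subobject (G.obj (cokernel ((equivShrink.{w} _).symm k.2.2.1).arrow))) : A)

omit [HasColimitsOfSize.{w, w} A] [Abelian A] in
lemma exists_shrink [WellPowered.{w} A] {x y : A} (q : x ⟶ y) [Mono q] :
    ∃ L : Shrink.{w} (Subobject y), Nonempty ((((equivShrink.{w} _).symm L : Subobject y) : A) ≅ x) :=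
  ⟨equivShrink _ (Subobject.mk q), by
    rw [Equiv.symm_apply_apply]
    exact ⟨Subobject.underlyingIso q⟩⟩

omit [HasColimitsOfSize.{w, w} A] [Abelian A] [PreservesFilteredColimitsOfSize.{w, w} G] in
lemma exists_fam [WellPowered.{w} A] {n : ℕ} (i : Fin n → ι) (b : B)
    (e : (∐ fun k => s (i k)) ⟶ b) [Epi e]
    (x : A) (q : x ⟶ G.obj b) [Mono q] : ∃ k : Idx s G, Nonempty (fam s G k ≅ x) := by
  obtain ⟨K, ⟨ε⟩⟩ := exists_iso_cokernel e
  obtain ⟨K', rfl⟩ := (equivShrink.{w} _).symm.surjective K
  obtain ⟨L, hL⟩ := exists_shrink (q ≫ (G.mapIso ε).hom)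
  exact ⟨⟨n, i, K', L⟩, hL⟩

include hs adj in
/-- The main statement. -/
theorem exists_family [AB5OfSize.{w, w} A] :
    ∃ (κ : Type w) (t : κ → A), ∀ (X Y : A) (f : X ⟶ Y), f ≠ 0 →
      ∃ (k : κ) (h : t k ⟶ X), Mono h ∧ h ≫ f ≠ 0 ∧
        ∃ (n : ℕ) (i : Fin n → ι) (b : B) (e : (∐ fun k => s (i k)) ⟶ b) (m : F.obj (t k) ⟶ b),
          Epi e ∧ Mono m := by
  have : WellPowered.{w} A := wellPowered F
  refine ⟨Idx s G, fam s G, fun X Y f hf => ?_⟩
  obtain ⟨x, p, t, q, hp, hq, hpf, hpq⟩ := exists_sub hs F G adj X Y f hf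
  -- reindex the finite sum
  let ε := t.equivFin.symm
  let i : Fin t.card → ι := fun k => (ε k).1.1
  let e : (∐ fun k => s (i k)) ⟶ (finSub s (F.obj X) t : B) :=
    (Sigma.reindex ε (fun p : t => s p.1.1)).hom ≫ factorThruImageSubobject (finMap s (F.obj X) t)
  have he0 : Epi (factorThruImageSubobject (finMap s (F.obj X) t)) := inferInstance
  have he : Epi e := by
    have := @epi_comp _ _ _ _ _ (Sigma.reindex ε (fun p : t => s p.1.1)).hom inferInstance _ he0
    exact this
  obtain ⟨k, ⟨η⟩⟩ := exists_fam G i _ e x q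
  refine ⟨k, η.hom ≫ p, inferInstance, ?_, t.card, i, _, e,
    F.map η.hom ≫ (adj.homEquiv _ _).symm q, he, ?_⟩
  · intro h
    apply hpf
    rw [← cancel_epi η.hom, comp_zero, ← h, Category.assoc]
  · have h1 : Mono ((adj.homEquiv _ _).symm q) := by
      have h2 : (adj.homEquiv _ _).symm q ≫ (finSub s (F.obj X) t).arrow = F.map p := by
        apply (adj.homEquiv _ _).injective
        rw [Adjunction.homEquiv_naturality_right, Equiv.apply_symm_apply, hpq,
          Adjunction.homEquiv_unit, Adjunction.unit_naturality]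
      have h3 : Mono ((adj.homEquiv _ _).symm q ≫ (finSub s (F.obj X) t).arrow) := by
        rw [h2]
        infer_instance
      exact mono_of_mono _ (finSub s (F.obj X) t).arrow
    infer_instance

include hs adj in
/-- The main statement, with noetherian generators. -/
theorem exists_family_noeth [AB5OfSize.{w, w} A] (hN : ∀ i, IsNoetherianObject (s i)) :
    ∃ (κ : Type w) (t : κ → A), (∀ k, IsNoetherianObject (F.obj (t k))) ∧
      ∀ (X Y : A) (f : X ⟶ Y), f ≠ 0 → ∃ (k : κ) (h : t k ⟶ X), Mono h ∧ h ≫ f ≠ 0 := by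
  obtain ⟨κ, t, ht⟩ := exists_family hs F G adj
  refine ⟨{k : κ // IsNoetherianObject (F.obj (t k))}, fun k => t k.1, fun k => k.2,
    fun X Y f hf => ?_⟩
  obtain ⟨k, h, h1, h2, n, i, b, e, m, he, hm⟩ := ht X Y f hf
  have h3 : IsNoetherianObject b :=
    have := isNoetherianObject_sigma (fun k => s (i k))
    Groth.Agent.Sga5.NoethObj.isNoetherianObject_of_epi e
  exact ⟨⟨k, isNoetherianObject_of_mono m⟩, h, h1, h2⟩

include hs adj in
/-- The image of a noetherian object is noetherian. -/
theorem isNoetherianObject_obj [F.Additive] [PreservesFiniteColimits F]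
    [AB5OfSize.{w, w} A] (hN : ∀ i, IsNoetherianObject (s i)) (a : A)
    [IsNoetherianObject a] : IsNoetherianObject (F.obj a) := by
  obtain ⟨κ, t, ht, ht'⟩ := exists_family_noeth hs F G adj hN
  -- a maximal subobject whose image is noetherian
  obtain ⟨P, hP, hmax⟩ := WellFounded.has_min (r := ((· > ·) : Subobject a → Subobject a → Prop))
    wellFounded_gt {P : Subobject a | IsNoetherianObject (F.obj (P : A))} ⟨⊥,
      isNoetherianObject_of_isZero (F.map_isZero
        (IsZero.of_iso (isZero_zero A) Subobject.botCoeIsoZero))⟩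
  have hP' : IsNoetherianObject (F.obj (P : A)) := hP
  have h0 : cokernel.π P.arrow = 0 := by
    by_contra h0
    obtain ⟨k, h, h1, h2⟩ := ht' _ _ _ h0
    have := ht k
    let d : (P : A) ⊞ t k ⟶ a := biprod.desc P.arrow h
    have h3 : IsNoetherianObject (F.obj ((imageSubobject d : Subobject a) : A)) := by
      have : PreservesBinaryBiproducts F := preservesBinaryBiproducts_of_preservesBiproducts F
      have : IsNoetherianObject (F.obj ((P : A) ⊞ t k)) :=
        Groth.Agent.Sga5.NoethObj.isNoetherianObject_of_iso (F.mapBiprod (P : A) (t k)).symm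
      exact Groth.Agent.Sga5.NoethObj.isNoetherianObject_of_epi (F.map (factorThruImageSubobject d))
    have h4 : P ≤ imageSubobject d := by
      refine Subobject.le_of_comm (biprod.inl ≫ factorThruImageSubobject d) ?_
      simp [d]
    have h5 : ¬ (imageSubobject d ≤ P) := by
      intro h5
      apply h2
      have h6 : h = (biprod.inr ≫ factorThruImageSubobject d ≫ Subobject.ofLE _ _ h5) ≫ P.arrow := by
        simp [d]
      rw [h6, Category.assoc, cokernel.condition, comp_zero]
    exact hmax _ h3 (lt_of_le_not_ge h4 h5)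
  have h1 : Epi P.arrow := Preadditive.epi_of_cokernel_zero h0
  exact Groth.Agent.Sga5.NoethObj.isNoetherianObject_of_epi (F.map P.arrow)

end Main

end K236.LeftAdj
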