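import Groth.Agent.Cohder.RDUnbdd
import Mathlib.Algebra.Homology.DerivedCategory.ShortExact

/-!
# Left resolutions of unbounded complexes

If every object of `A` is a quotient of an object in a class `P` then every complex is a termwise
quotient of a complex with terms in `P`.  We deduce resolutions of complexes by complexes whose
terms `Y` satisfy `RⁱF(Y) = 0` for `i ≠ n`.
-/

set_option autoImplicit false
set_option backward.isDefEq.respectTransparency false

open CategoryTheory Category Limits HomologicalComplex CochainComplex HomComplex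

namespace K236.PRes

open Groth.Agent.Cohder.RDAcyc Groth.Agent.Cohder.RDUnbdd

universe v u v' u'

section cone

variable {C : Type u} [Category.{v} C] [Abelian C]

attribute [local instance] HasDerivedCategory.standard

/-- Cones of maps of pairs which are quasi-isomorphisms. -/
lemma quasiIso_mappingCone_map {K₁ L₁ K₂ L₂ : CochainComplex C ℤ} (φ₁ : K₁ ⟶ L₁) (φ₂ : K₂ ⟶ L₂)
    (a : K₁ ⟶ K₂) (b : L₁ ⟶ L₂) (comm : φ₁ ≫ b = a ≫ φ₂) [QuasiIso a] [QuasiIso b] :
    QuasiIso (mappingCone.map φ₁ φ₂ a b comm) := by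
  have h := Pretriangulated.isIso₃_of_isIso₁₂
    (DerivedCategory.Q.mapTriangle.map (mappingCone.triangleMap φ₁ φ₂ a b comm))
    (DerivedCategory.mappingCone_triangle_distinguished φ₁)
    (DerivedCategory.mappingCone_triangle_distinguished φ₂)
    (inferInstanceAs (IsIso (DerivedCategory.Q.map a)))
    (inferInstanceAs (IsIso (DerivedCategory.Q.map b)))
  rw [← DerivedCategory.isIso_Q_map_iff_quasiIso]
  exact h

/-- Every complex is a termwise quotient of a complex with terms in `P`. -/
lemma exists_epi (P : C → Prop) (h₂ : ∀ X Y : C, P X → P Y → P (X ⊞ Y))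
    (hiso : ∀ (X Y : C) (_ : X ≅ Y), P X → P Y)
    (hP : ∀ X : C, ∃ (Y : C) (p : Y ⟶ X), Epi p ∧ P Y) (K : CochainComplex C ℤ) :
    ∃ (E : CochainComplex C ℤ) (π : E ⟶ K), Epi π ∧ ∀ p, P (E.X p) := by
  choose Y π hπ hY using hP
  let Z : CochainComplex C ℤ := { X := fun p => Y (K.X (p - 1)), d := fun _ _ => 0 }
  let α : Cochain Z K (-1) := Cochain.mk (fun p q hpq =>
    π (K.X (p - 1)) ≫ (K.XIsoOfEq (show p - 1 = q by lia)).hom)
  let β : Cocycle Z K 0 := Cocycle.mk (δ (-1) 0 α) 1 (by simp) (δ_δ _ _ _ _)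
  let b : Z ⟶ K := Cocycle.homOf β
  have hb : δ (-1) 0 α = Cochain.ofHom (𝟙 Z ≫ b) := by
    rw [id_comp]
    simp [b, β]
  let f : mappingCone (𝟙 Z) ⟶ K := mappingCone.desc (𝟙 Z) α b hb
  refine ⟨mappingCone (𝟙 Z), f, ?_, fun p => hiso _ _
    (HomologicalComplex.homotopyCofiber.XIsoBiprod (𝟙 Z) p (p + 1) rfl).symm
      (h₂ _ _ (hY _) (hY _))⟩
  · have : ∀ p, Epi (f.f p) := fun p => by
      have h1 : (mappingCone.inl (𝟙 Z)).v (p + 1) p (by lia) ≫ f.f p = α.v (p + 1) p (by lia) := by
        simp [f]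
      have h2 : Epi (α.v (p + 1) p (by lia)) := by
        have := hπ (K.X (p + 1 - 1))
        dsimp [α]
        infer_instance
      exact epi_of_epi_fac h1
    exact HomologicalComplex.epi_of_epi_f f this

end cone

variable {C : Type u} [Category.{v} C] [Abelian C] [HasInjectiveResolutions C]
variable {D : Type u'} [Category.{v'} D] [Abelian D] (F : C ⥤ D) [F.Additive] (n : ℕ)

/-- The objects with `RⁱF(X) = 0` for `i ≠ n`. -/
def PP (X : C) : Prop := ∀ i : ℕ, i ≠ n → IsZero ((F.rightDerived i).obj X)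

lemma PP_biprod {X Y : C} (hX : PP F n X) (hY : PP F n Y) : PP F n (X ⊞ Y) := fun i hi =>
  isZero_X₂ F (S := ShortComplex.mk (biprod.inl : X ⟶ X ⊞ Y) (biprod.snd : X ⊞ Y ⟶ Y) (by simp))
    { exact := (ShortComplex.Splitting.ofHasBinaryBiproduct X Y).exact } i (hX i hi) (hY i hi)

lemma PP_of_iso {X Y : C} (e : X ≅ Y) (hX : PP F n X) : PP F n Y :=
  fun i hi => (hX i hi).of_iso ((F.rightDerived i).mapIso e.symm)

variable (hdim : ∀ (X : C) (i : ℕ), n < i → IsZero ((F.rightDerived i).obj X))
    (hP : ∀ X : C, ∃ (Y : C) (p : Y ⟶ X), Epi p ∧ PP F n Y)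

include hdim hP in
lemma exists_res (m : ℕ) : ∀ (K : CochainComplex C ℤ)
    (_ : ∀ (p : ℤ) (i : ℕ), i + m < n → IsZero ((F.rightDerived i).obj (K.X p))),
    ∃ (L : CochainComplex C ℤ) (f : L ⟶ K), QuasiIso f ∧ ∀ p, PP F n (L.X p) := by
  induction m with
  | zero =>
    intro K hK
    refine ⟨K, 𝟙 K, inferInstance, fun p i hi => ?_⟩
    rcases lt_or_gt_of_ne hi with h | h
    · exact hK p i h
    · exact hdim _ i h
  | succ m ih =>
    intro K hK
    obtain ⟨E, π, hπ, hE⟩ := exists_epi (PP F n) (fun X Y => PP_biprod F n)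
      (fun X Y => PP_of_iso F n) hP K
    have hS : (ShortComplex.mk (kernel.ι π) π (kernel.condition π)).ShortExact :=
      { exact := ShortComplex.exact_kernel π }
    obtain ⟨L, g, hg, hL⟩ := ih (kernel π) (fun p i hi => by
      have hp := hS.map_of_exact (HomologicalComplex.eval C (ComplexShape.up ℤ) p)
      cases i with
      | zero =>
        have h1 := (Groth.Agent.Cohder.RDLES.exists_les F hp).1
        have h2 : IsZero ((F.rightDerived 0).obj (E.X p)) := hE p 0 (by lia)
        have h3 : (F.rightDerived 0).map ((kernel.ι π).f p) = 0 := h2.eq_of_tgt _ _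
        have h4 : Mono ((F.rightDerived 0).map ((kernel.ι π).f p)) := h1
        exact IsZero.of_mono_eq_zero _ h3
      | succ i => exact isZero_X₁ F hp i (hK p i (by lia)) (hE p (i + 1) (by lia)))
    let a : mappingCone (g ≫ kernel.ι π) ⟶ mappingCone (kernel.ι π) :=
      mappingCone.map _ _ g (𝟙 E) (by simp)
    have ha : QuasiIso a := quasiIso_mappingCone_map _ _ _ _ _
    let b := mappingCone.descShortComplex
      (ShortComplex.mk (kernel.ι π) π (kernel.condition π))
    have hb : QuasiIso b := mappingCone.quasiIso_descShortComplex hS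
    exact ⟨mappingCone (g ≫ kernel.ι π), a ≫ b, inferInstance, fun p => PP_of_iso F n
      (HomologicalComplex.homotopyCofiber.XIsoBiprod (g ≫ kernel.ι π) p (p + 1) rfl).symm
        (PP_biprod F n (hL _) (hE _))⟩

end K236.PRes
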