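import Groth.Agent.CohDer.K236.CxRes
import Mathlib.Algebra.Homology.DerivedCategory.Basic

/-!
# The natural transformation `RF(X) ⟶ RⁿF(X)[-n]` on complexes
-/

set_option autoImplicit false
set_option backward.isDefEq.respectTransparency false

open CategoryTheory Category Limits HomologicalComplex HomologicalComplex₂

namespace K236.RFLG

open TotalTools CxRes Groth.Agent.Cohder.RDAcyc Groth.Agent.Htor.H253.TotalPrj
  Groth.Agent.Htor.H253.TotalQuasi

universe w w' v u v' u'

variable {A : Type u} [Category.{v} A] [Abelian A]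
  {B : Type u'} [Category.{v'} B] [Abelian B] (F : A ⥤ B) [F.Additive]

variable {X : CochainComplex A ℤ} (R : InjectiveResolution X) (n : ℕ)

lemma bdd_tr : Bdd (tr R n) := fun _ => ⟨0, n, fun i j _ hi => by
  refine (HomologicalComplex.eval A (ComplexShape.up ℤ) j).map_isZero ?_
  rcases hi with hi | hi
  · exact isZero_tr_neg R n i hi
  · exact isZero_tr_gt R n i hi⟩

instance : HomologicalComplex₂.HasTotal (tr R n) (ComplexShape.up ℤ) := hasTotal (bdd_tr R n)

instance (a : ℤ) (Y : CochainComplex A ℤ) : (col a Y).HasTotal (ComplexShape.up ℤ) :=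
  hasTotal (bdd_col a Y)

instance : (mapD F (tr R n)).HasTotal (ComplexShape.up ℤ) := hasTotal (bdd_mapD F (bdd_tr R n))

/-- The total complex of the truncated injective resolution. -/
noncomputable abbrev tot : CochainComplex A ℤ :=
  HomologicalComplex₂.total (tr R n) (ComplexShape.up ℤ)

/-- The augmentation `X ⟶ Tot(I)`. -/
noncomputable def toTot : X ⟶ tot R n :=
  (shiftFunctorZero' (CochainComplex A ℤ) (-(0 : ℤ)) (by simp)).inv.app X ≫
    (colIso 0 X).hom ≫ total.map (K := col 0 X) (L := tr R n) (eps R n) (ComplexShape.up ℤ)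

instance : QuasiIso (toTot R n) := by
  have h : QuasiIso (total.map (K := col 0 X) (L := tr R n) (eps R n) (ComplexShape.up ℤ)) := by
    refine quasiIso_total_map_of_flip (D := col 0 X) (E := tr R n) (eps R n) (bdd_col 0 X)
      (bdd_tr R n) (fun p => ?_)
    exact inferInstanceAs (QuasiIso ((E A p).map (eps R n)))
  unfold toTot
  infer_instance

variable {X' : CochainComplex A ℤ} {R' : InjectiveResolution X'} {f : X ⟶ X'}
    (φ : InjectiveResolution.Hom R R' f)

variable {R} in
lemma toTot_naturality :
    f ≫ toTot R' n = toTot R n ≫ total.map (K := tr R n) (L := tr R' n) (trMap n φ)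
      (ComplexShape.up ℤ) := by
  have h1 := (shiftFunctorZero' (CochainComplex A ℤ) (-(0 : ℤ)) (by simp)).inv.naturality f
  have h2 := colIso_hom_naturality 0 f
  have h3 : total.map (K := col 0 X) (L := tr R n) (eps R n) (ComplexShape.up ℤ) ≫
      total.map (K := tr R n) (L := tr R' n) (trMap n φ) (ComplexShape.up ℤ) =
      total.map (K := col 0 X) (L := col 0 X')
        ((HomologicalComplex.single (CochainComplex A ℤ) (ComplexShape.up ℤ) 0).map f)
        (ComplexShape.up ℤ) ≫
      total.map (K := col 0 X') (L := tr R' n) (eps R' n) (ComplexShape.up ℤ) := by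
    rw [← total.map_comp, ← total.map_comp]
    exact congrArg (fun g => total.map g (ComplexShape.up ℤ)) (eps_trMap φ)
  dsimp only [toTot]
  rw [assoc, assoc, h3, reassoc_of% h2]
  exact (reassoc_of% h1) _

section acyc

variable [EnoughInjectives A]

omit [F.Additive] [EnoughInjectives A] in
lemma isZero_of_retract {H : A ⥤ B} {Y : A} {ι : Type*} (s : Finset ι) {Z : ι → A}
    (a : ∀ i, Y ⟶ Z i) (b : ∀ i, Z i ⟶ Y) (h : 𝟙 Y = ∑ i ∈ s, a i ≫ b i)
    (hH : ∀ (X Y : A) (f g : X ⟶ Y), H.map (f + g) = H.map f + H.map g)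
    (hZ : ∀ i, IsZero (H.obj (Z i))) : IsZero (H.obj Y) := by
  have : H.Additive := ⟨fun {X Y f g} => hH X Y f g⟩
  rw [IsZero.iff_id_eq_zero, ← H.map_id, h, H.map_sum]
  refine Finset.sum_eq_zero fun i _ => ?_
  rw [H.map_comp, (hZ i).eq_of_tgt (H.map (a i)) 0, zero_comp]

lemma rightDerived_map_add (m : ℕ) {X Y : A} (f g : X ⟶ Y) :
    (F.rightDerived m).map (f + g) = (F.rightDerived m).map f + (F.rightDerived m).map g := by
  let P := injectiveResolution X
  let Q := injectiveResolution Y
  rw [F.rightDerived_map_eq m (f + g) (P := P) (Q := Q)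
    (InjectiveResolution.desc f Q P + InjectiveResolution.desc g Q P)
    (by rw [Preadditive.comp_add, InjectiveResolution.desc_commutes,
      InjectiveResolution.desc_commutes, Functor.map_add, Preadditive.add_comp]),
    F.rightDerived_map_eq m f (P := P) (Q := Q) (InjectiveResolution.desc f Q P)
      (InjectiveResolution.desc_commutes _ _ _),
    F.rightDerived_map_eq m g (P := P) (Q := Q) (InjectiveResolution.desc g Q P)
      (InjectiveResolution.desc_commutes _ _ _)]
  rw [Functor.map_add, Preadditive.add_comp, Preadditive.comp_add]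

variable (hdim : ∀ (X : A) (i : ℕ), n < i → IsZero ((F.rightDerived i).obj X))

include hdim in
/-- The terms of the total complex of the truncated resolution are acyclic. -/
lemma isAcyc_tot (m : ℤ) : IsAcyc F ((tot R n).X m) := by
  intro i hi
  obtain ⟨lo, hi', h⟩ := bdd_tr R n m
  exact isZero_of_retract (H := F.rightDerived i) (Finset.Icc lo hi') _ _
    (id_eq_sum (D := tr R n) m lo hi' h) (fun _ _ => rightDerived_map_add F i)
    (fun k => isAcyc_tr F R n hdim k (m - k) i hi)

variable [PreservesFiniteLimits F] [(F.rightDerived n).Additive]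

/-- The morphism `Tot(F(I)) ⟶ Tot(RⁿF(X)[-n])`. -/
noncomputable def totEta : HomologicalComplex₂.total (mapD F (tr R n)) (ComplexShape.up ℤ) ⟶
    HomologicalComplex₂.total
      (col n (((F.rightDerived n).mapHomologicalComplex (ComplexShape.up ℤ)).obj X))
      (ComplexShape.up ℤ) :=
  total.map (K := mapD F (tr R n))
    (L := col n (((F.rightDerived n).mapHomologicalComplex (ComplexShape.up ℤ)).obj X))
    (eta F R n) (ComplexShape.up ℤ)

include hdim in
lemma quasiIso_totEta
    (hX : ∀ (p : ℤ) (i : ℕ), i ≠ n → IsZero ((F.rightDerived i).obj (X.X p))) :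
    QuasiIso (totEta F R n) :=
  quasiIso_total_map_of_flip (D := mapD F (tr R n))
    (E := col n (((F.rightDerived n).mapHomologicalComplex (ComplexShape.up ℤ)).obj X))
    (eta F R n) (bdd_mapD F (bdd_tr R n)) (bdd_col _ _)
    (fun p => quasiIso_E_eta F R n hdim p (hX p))

omit [PreservesFiniteLimits F] in
variable {R} in
lemma totEta_naturality :
    total.map (K := mapD F (tr R n)) (L := mapD F (tr R' n)) (mapDMap F (trMap n φ))
        (ComplexShape.up ℤ) ≫ totEta F R' n =
      totEta F R n ≫ total.map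
        (K := col n (((F.rightDerived n).mapHomologicalComplex (ComplexShape.up ℤ)).obj X))
        (L := col n (((F.rightDerived n).mapHomologicalComplex (ComplexShape.up ℤ)).obj X'))
        ((HomologicalComplex.single (CochainComplex B ℤ) (ComplexShape.up ℤ) n).map
        (((F.rightDerived n).mapHomologicalComplex (ComplexShape.up ℤ)).map f))
        (ComplexShape.up ℤ) := by
  dsimp only [totEta]
  rw [← total.map_comp, ← total.map_comp]
  exact congrArg (fun g => total.map g (ComplexShape.up ℤ)) (eta_naturality F n φ)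

end acyc

section beta

variable [EnoughInjectives A] [(F.rightDerived n).Additive]

/-- The morphism `F(Tot(I)) ⟶ RⁿF(X)[-n]`. -/
noncomputable def toG : (F.mapHomologicalComplex (ComplexShape.up ℤ)).obj (tot R n) ⟶
    (((F.rightDerived n).mapHomologicalComplex (ComplexShape.up ℤ)).obj X)⟦(-(n : ℤ))⟧ :=
  (mapTotalIso F (bdd_tr R n)).inv ≫ totEta F R n ≫ (colIso n
    (((F.rightDerived n).mapHomologicalComplex (ComplexShape.up ℤ)).obj X)).inv

variable {R} in
lemma toG_naturality :
    (F.mapHomologicalComplex (ComplexShape.up ℤ)).map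
        (total.map (K := tr R n) (L := tr R' n) (trMap n φ) (ComplexShape.up ℤ)) ≫ toG F R' n =
      toG F R n ≫
        (((F.rightDerived n).mapHomologicalComplex (ComplexShape.up ℤ)).map f)⟦(-(n : ℤ))⟧' := by
  have h1 := mapTotalIso_naturality F (bdd_tr R n) (bdd_tr R' n) (trMap n φ)
  have h2 := totEta_naturality F n φ
  have h3 := colIso_hom_naturality n
    (((F.rightDerived n).mapHomologicalComplex (ComplexShape.up ℤ)).map f)
  dsimp only [toG]
  rw [← cancel_epi (mapTotalIso F (bdd_tr R n)).hom, ← reassoc_of% h1, Iso.hom_inv_id_assoc,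
    reassoc_of% h2, assoc, assoc, Iso.hom_inv_id_assoc]
  congr 1
  rw [Iso.eq_inv_comp, reassoc_of% h3, Iso.hom_inv_id, comp_id]

variable (hdim : ∀ (X : A) (i : ℕ), n < i → IsZero ((F.rightDerived i).obj X))

include hdim in
lemma quasiIso_toG [PreservesFiniteLimits F]
    (hX : ∀ (p : ℤ) (i : ℕ), i ≠ n → IsZero ((F.rightDerived i).obj (X.X p))) :
    QuasiIso (toG F R n) := by
  have := quasiIso_totEta F R n hdim hX
  unfold toG
  infer_instance

variable [HasDerivedCategory.{w} A] [HasDerivedCategory.{w'} B]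
  (RF : DerivedCategory A ⥤ DerivedCategory B)
  (α : F.mapHomologicalComplex (ComplexShape.up ℤ) ⋙ DerivedCategory.Q ⟶ DerivedCategory.Q ⋙ RF)
  (hα : ∀ K : CochainComplex A ℤ, (∀ p, IsAcyc F (K.X p)) → IsIso (α.app K))

/-- The isomorphism given by `α`. -/
noncomputable def αIso (K : CochainComplex A ℤ) (hK : ∀ p, IsAcyc F (K.X p)) :
    DerivedCategory.Q.obj ((F.mapHomologicalComplex (ComplexShape.up ℤ)).obj K) ≅
      RF.obj (DerivedCategory.Q.obj K) :=
  @asIso _ _ _ _ (α.app K) (hα K hK)

lemma αIso_naturality {K L : CochainComplex A ℤ} (hK : ∀ p, IsAcyc F (K.X p))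
    (hL : ∀ p, IsAcyc F (L.X p)) (g : K ⟶ L) :
    RF.map (DerivedCategory.Q.map g) ≫ (αIso F RF α hα L hL).inv =
      (αIso F RF α hα K hK).inv ≫
        DerivedCategory.Q.map ((F.mapHomologicalComplex (ComplexShape.up ℤ)).map g) := by
  rw [Iso.comp_inv_eq, assoc, Iso.eq_inv_comp]
  exact (α.naturality g).symm

/-- The morphism `RF(X) ⟶ RⁿF(X)[-n]`. -/
noncomputable def beta : RF.obj (DerivedCategory.Q.obj X) ⟶
    (DerivedCategory.Q.obj
      (((F.rightDerived n).mapHomologicalComplex (ComplexShape.up ℤ)).obj X))⟦(-(n : ℤ))⟧ :=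
  RF.map (DerivedCategory.Q.map (toTot R n)) ≫
    (αIso F RF α hα (tot R n) (isAcyc_tot F R n hdim)).inv ≫
    DerivedCategory.Q.map (toG F R n) ≫
    (DerivedCategory.Q.commShiftIso (-(n : ℤ))).hom.app
      (((F.rightDerived n).mapHomologicalComplex (ComplexShape.up ℤ)).obj X)

variable {R} in
include φ in
lemma beta_naturality :
    RF.map (DerivedCategory.Q.map f) ≫ beta F R' n hdim RF α hα =
      beta F R n hdim RF α hα ≫ (DerivedCategory.Q.map
        (((F.rightDerived n).mapHomologicalComplex (ComplexShape.up ℤ)).map f))⟦(-(n : ℤ))⟧' := by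
  have h1 := toTot_naturality n φ
  have h2 := αIso_naturality F RF α hα (isAcyc_tot F R n hdim) (isAcyc_tot F R' n hdim)
    (total.map (K := tr R n) (L := tr R' n) (trMap n φ) (ComplexShape.up ℤ))
  have h3 := toG_naturality F n φ
  have h4 := (DerivedCategory.Q.commShiftIso (-(n : ℤ))).hom.naturality
    (((F.rightDerived n).mapHomologicalComplex (ComplexShape.up ℤ)).map f)
  dsimp only [beta]
  rw [← Functor.map_comp_assoc, ← Functor.map_comp, h1, Functor.map_comp, Functor.map_comp, assoc,
    reassoc_of% h2, ← Functor.map_comp_assoc, h3, Functor.map_comp, assoc, assoc, assoc, assoc]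
  congr 3

include hdim in
lemma isIso_beta [PreservesFiniteLimits F]
    (hX : ∀ (p : ℤ) (i : ℕ), i ≠ n → IsZero ((F.rightDerived i).obj (X.X p))) :
    IsIso (beta F R n hdim RF α hα) := by
  have := quasiIso_toG F R n hdim hX
  unfold beta
  infer_instance

end beta

end K236.RFLG
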