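import Groth.Agent.CohDer.K236.RFLG
import Groth.Agent.CohDer.K236.PRes
import Groth.Agent.Dcoh.DerAbs
import Mathlib.Algebra.Homology.DerivedCategory.Fractions

/-!
# `RF ≅ LG[-n]`
-/

set_option autoImplicit false
set_option backward.isDefEq.respectTransparency false

open CategoryTheory Category Limits HomologicalComplex HomologicalComplex₂

namespace K236.RFLGMain

open TotalTools CxRes RFLG PRes Groth.Agent.Cohder.RDAcyc Groth.Agent.Dcoh.DerAbs

universe w w' v u v' u'

variable {A : Type u} [Category.{v} A] [Abelian A] [EnoughInjectives A]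
  {B : Type u'} [Category.{v'} B] [Abelian B] (F : A ⥤ B) [F.Additive] (n : ℕ)

section homotopy

variable [HasDerivedCategory.{w'} B]

omit [EnoughInjectives A] in
lemma map_eq_of_quotient (G : A ⥤ B) [G.Additive] {K L : CochainComplex A ℤ} (f g : K ⟶ L)
    (h : (HomotopyCategory.quotient A (ComplexShape.up ℤ)).map f =
      (HomotopyCategory.quotient A (ComplexShape.up ℤ)).map g) :
    (G.mapHomologicalComplex (ComplexShape.up ℤ) ⋙ DerivedCategory.Q).map f =
      (G.mapHomologicalComplex (ComplexShape.up ℤ) ⋙ DerivedCategory.Q).map g :=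
  DerivedCategory.Q_map_eq_of_homotopy _
    (G.mapHomotopy (HomotopyCategory.homotopyOfEq f g h))

variable (hdim : ∀ (X : A) (i : ℕ), n < i → IsZero ((F.rightDerived i).obj X))

include hdim in
/-- Right derived functors are computed by complexes with acyclic terms. -/
lemma rightData [PreservesFiniteLimits F] :
    RightData (HomotopyCategory.quotient A (ComplexShape.up ℤ))
      (HomotopyCategory.quasiIso A (ComplexShape.up ℤ))
      (F.mapHomologicalComplex (ComplexShape.up ℤ) ⋙ DerivedCategory.Q)
      (fun K => ∀ p, IsAcyc F (K.X p)) where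
  full := inferInstance
  essSurj := inferInstance
  frac := inferInstance
  respectsIso := inferInstance
  map_eq f g hfg := map_eq_of_quotient F f g hfg
  exists_res X := by
    obtain ⟨L, f, hf, hL⟩ := Groth.Agent.Cohder.RDUnbdd.exists_res F n X
      (fun p i hi => hdim _ i hi)
    exact ⟨L, f, hL, (HomotopyCategory.quotient_map_mem_quasiIso_iff _).2 hf⟩
  isIso_map {X Y} f hX hY hf := by
    have hf' : QuasiIso f := (HomotopyCategory.quotient_map_mem_quasiIso_iff _).1 hf
    have := Groth.Agent.Cohder.RDUnbdd.quasiIso_map F (n + 1) (fun X => hdim X _ (by lia)) f hX hY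
    rw [Functor.comp_map]
    infer_instance

end homotopy

section nat

variable [(F.rightDerived n).Additive] [HasDerivedCategory.{w} A] [HasDerivedCategory.{w'} B]
  (hdim : ∀ (X : A) (i : ℕ), n < i → IsZero ((F.rightDerived i).obj X))
  (RF : DerivedCategory A ⥤ DerivedCategory B)
  (α : F.mapHomologicalComplex (ComplexShape.up ℤ) ⋙ DerivedCategory.Q ⟶ DerivedCategory.Q ⋙ RF)
  (hα : ∀ K : CochainComplex A ℤ, (∀ p, IsAcyc F (K.X p)) → IsIso (α.app K))

/-- The morphism of resolutions. -/
noncomputable def resHom {X Y : CochainComplex A ℤ} (f : X ⟶ Y) :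
    InjectiveResolution.Hom (injectiveResolution X) (injectiveResolution Y) f where
  hom := InjectiveResolution.desc f _ _
  ι_f_zero_comp_hom_f_zero := by
    rw [CochainComplex.single₀_map_f_zero]
    exact InjectiveResolution.desc_commutes_zero f _ _

/-- The natural transformation `RF ⟶ RⁿF[-n]` on complexes. -/
noncomputable def betaNat : DerivedCategory.Q ⋙ RF ⟶
    ((F.rightDerived n).mapHomologicalComplex (ComplexShape.up ℤ) ⋙ DerivedCategory.Q) ⋙
      shiftFunctor (DerivedCategory B) (-(n : ℤ)) where
  app X := beta F (injectiveResolution X) n hdim RF α hα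
  naturality _ _ f := beta_naturality F n (resHom f) hdim RF α hα

variable [PreservesFiniteLimits F]

lemma isIso_betaNat (X : CochainComplex A ℤ) (hX : ∀ p, PP F n (X.X p)) :
    IsIso ((betaNat F n hdim RF α hα).app X) :=
  isIso_beta F (injectiveResolution X) n hdim RF α hα hX

variable (hP : ∀ X : A, ∃ (Y : A) (p : Y ⟶ X), Epi p ∧ PP F n Y)

include hdim hP hα in
/-- Left derived functors of `RⁿF` are computed by complexes with terms in `P`. -/
lemma leftData :
    LeftData (HomotopyCategory.quotient A (ComplexShape.up ℤ))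
      (HomotopyCategory.quasiIso A (ComplexShape.up ℤ))
      ((F.rightDerived n).mapHomologicalComplex (ComplexShape.up ℤ) ⋙ DerivedCategory.Q)
      (fun K => ∀ p, PP F n (K.X p)) where
  full := inferInstance
  essSurj := inferInstance
  frac := inferInstance
  respectsIso := inferInstance
  map_eq f g hfg := map_eq_of_quotient (F.rightDerived n) f g hfg
  exists_res X := by
    obtain ⟨L, f, hf, hL⟩ := PRes.exists_res F n hdim hP n X (fun p i hi => by lia)
    exact ⟨L, f, hL, (HomotopyCategory.quotient_map_mem_quasiIso_iff _).2 hf⟩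
  isIso_map {X Y} f hX hY hf := by
    have hf' : QuasiIso f := (HomotopyCategory.quotient_map_mem_quasiIso_iff _).1 hf
    have h1 := isIso_betaNat F n hdim RF α hα X hX
    have h2 := isIso_betaNat F n hdim RF α hα Y hY
    have h3 := (betaNat F n hdim RF α hα).naturality f
    have h4 : IsIso (RF.map (DerivedCategory.Q.map f)) := inferInstance
    have h5 : IsIso ((DerivedCategory.Q ⋙ RF).map f ≫ (betaNat F n hdim RF α hα).app Y) :=
      IsIso.comp_isIso' h4 h2
    rw [h3] at h5
    have h6 := IsIso.of_isIso_comp_left ((betaNat F n hdim RF α hα).app X)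
      (((((F.rightDerived n).mapHomologicalComplex (ComplexShape.up ℤ) ⋙ DerivedCategory.Q)) ⋙
      shiftFunctor (DerivedCategory B) (-(n : ℤ))).map f)
    have h7 : IsIso ((shiftFunctor (DerivedCategory B) (-(n : ℤ))).map
      (((F.rightDerived n).mapHomologicalComplex (ComplexShape.up ℤ) ⋙
        DerivedCategory.Q).map f)) := h6
    exact isIso_of_reflects_iso _ (shiftFunctor (DerivedCategory B) (-(n : ℤ)))

end nat

section main

variable [(F.rightDerived n).Additive] [HasDerivedCategory.{w} A] [HasDerivedCategory.{w'} B]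
  [PreservesFiniteLimits F]
  (hdim : ∀ (X : A) (i : ℕ), n < i → IsZero ((F.rightDerived i).obj X))
  (hP : ∀ X : A, ∃ (Y : A) (p : Y ⟶ X), Epi p ∧ PP F n Y)

omit [EnoughInjectives A] [HasDerivedCategory.{w} A] in
lemma hW {X Y : CochainComplex A ℤ} (w : X ⟶ Y)
    (hw : HomotopyCategory.quasiIso A (ComplexShape.up ℤ)
      ((HomotopyCategory.quotient A (ComplexShape.up ℤ)).map w)) :
    HomologicalComplex.quasiIso A (ComplexShape.up ℤ) w :=
  (HomotopyCategory.quotient_map_mem_quasiIso_iff w).1 hw

include hdim in
omit [(F.rightDerived n).Additive] in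
lemma hasRight : (F.mapHomologicalComplex (ComplexShape.up ℤ) ⋙
    DerivedCategory.Q).HasRightDerivedFunctor (HomologicalComplex.quasiIso A (ComplexShape.up ℤ)) :=
  (rightData F n hdim).hasRightDerivedFunctor (DerivedCategory.quotientCompQhIso A) hW

variable [(F.mapHomologicalComplex (ComplexShape.up ℤ) ⋙
  DerivedCategory.Q).HasRightDerivedFunctor (HomologicalComplex.quasiIso A (ComplexShape.up ℤ))]

include hdim in
omit [(F.rightDerived n).Additive] in
lemma isIso_unit (K : CochainComplex A ℤ) (hK : ∀ p, IsAcyc F (K.X p)) :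
    IsIso (((F.mapHomologicalComplex (ComplexShape.up ℤ) ⋙ DerivedCategory.Q).totalRightDerivedUnit
      DerivedCategory.Q (HomologicalComplex.quasiIso A (ComplexShape.up ℤ))).app K) :=
  (rightData F n hdim).isIso_app (DerivedCategory.quotientCompQhIso A) hW _ _ K hK

include hdim hP in
lemma leftData' : LeftData (HomotopyCategory.quotient A (ComplexShape.up ℤ))
      (HomotopyCategory.quasiIso A (ComplexShape.up ℤ))
      ((F.rightDerived n).mapHomologicalComplex (ComplexShape.up ℤ) ⋙ DerivedCategory.Q)
      (fun K => ∀ p, PP F n (K.X p)) :=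
  leftData F n hdim _ _ (isIso_unit F n hdim) hP

include hdim hP in
lemma hasLeft : ((F.rightDerived n).mapHomologicalComplex (ComplexShape.up ℤ) ⋙
    DerivedCategory.Q).HasLeftDerivedFunctor (HomologicalComplex.quasiIso A (ComplexShape.up ℤ)) :=
  (leftData' F n hdim hP).hasLeftDerivedFunctor (DerivedCategory.quotientCompQhIso A) hW

include hdim hP in
lemma main [((F.rightDerived n).mapHomologicalComplex (ComplexShape.up ℤ) ⋙
    DerivedCategory.Q).HasLeftDerivedFunctor (HomologicalComplex.quasiIso A (ComplexShape.up ℤ))] :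
    Nonempty ((F.mapHomologicalComplex (ComplexShape.up ℤ) ⋙ DerivedCategory.Q).totalRightDerived
        DerivedCategory.Q (HomologicalComplex.quasiIso A (ComplexShape.up ℤ)) ≅
      ((F.rightDerived n).mapHomologicalComplex (ComplexShape.up ℤ) ⋙
        DerivedCategory.Q).totalLeftDerived DerivedCategory.Q
          (HomologicalComplex.quasiIso A (ComplexShape.up ℤ)) ⋙
        shiftFunctor (DerivedCategory B) (-(n : ℤ))) := by
  let RF := (F.mapHomologicalComplex (ComplexShape.up ℤ) ⋙ DerivedCategory.Q).totalRightDerived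
        DerivedCategory.Q (HomologicalComplex.quasiIso A (ComplexShape.up ℤ))
  let α := (F.mapHomologicalComplex (ComplexShape.up ℤ) ⋙ DerivedCategory.Q).totalRightDerivedUnit
      DerivedCategory.Q (HomologicalComplex.quasiIso A (ComplexShape.up ℤ))
  let b := betaNat F n hdim RF α (isIso_unit F n hdim)
  have h1 := ((leftData' F n hdim hP).postcomp
    (shiftFunctor (DerivedCategory B) (-(n : ℤ)))).isLeftDerivedFunctor
      (W₀ := HomologicalComplex.quasiIso A (ComplexShape.up ℤ))
      (DerivedCategory.quotientCompQhIso A) hW RF b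
      (isIso_betaNat F n hdim RF α (isIso_unit F n hdim))
  have h2 := (leftData' F n hdim hP).isLeftDerivedFunctor_postcomp
    (W₀ := HomologicalComplex.quasiIso A (ComplexShape.up ℤ))
    (DerivedCategory.quotientCompQhIso A) hW
    (((F.rightDerived n).mapHomologicalComplex (ComplexShape.up ℤ) ⋙
        DerivedCategory.Q).totalLeftDerived DerivedCategory.Q
          (HomologicalComplex.quasiIso A (ComplexShape.up ℤ)))
    (((F.rightDerived n).mapHomologicalComplex (ComplexShape.up ℤ) ⋙
        DerivedCategory.Q).totalLeftDerivedCounit DerivedCategory.Q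
          (HomologicalComplex.quasiIso A (ComplexShape.up ℤ)))
    (shiftFunctor (DerivedCategory B) (-(n : ℤ)))
  exact ⟨@Functor.leftDerivedNatIso _ _ _ _ _ _ RF _ _ _ _ b _
    (HomologicalComplex.quasiIso A (ComplexShape.up ℤ)) _ h2 h1 (Iso.refl _)⟩

end main

end K236.RFLGMain
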