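import Mathlib.CategoryTheory.Triangulated.Triangulated

/-!
# Shifted exactness of the functors `Hom(A, -)` on distinguished triangles
-/

set_option autoImplicit false

universe v u

open CategoryTheory CategoryTheory.Limits CategoryTheory.Pretriangulated

namespace K236.TriShift

variable {D : Type u} [Category.{v} D] [Preadditive D] [HasZeroObject D] [HasShift D ℤ]
    [∀ n : ℤ, (shiftFunctor D n).Additive] [Pretriangulated D]

/-- Exactness of `Hom(A, -)` on a shifted distinguished triangle, at the second object. -/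
lemma coyoneda_exact₂_shift (T : Triangle D) (hT : T ∈ distTriang D) {A : D} (n : ℤ)
    (φ : A ⟶ T.obj₂⟦n⟧) (h : φ ≫ T.mor₂⟦n⟧' = 0) : ∃ y : A ⟶ T.obj₁⟦n⟧, φ = y ≫ T.mor₁⟦n⟧' := by
  have h' : φ ≫ (n.negOnePow • T.mor₂⟦n⟧') = 0 := by
    rw [Linear.comp_units_smul, h, smul_zero]
  obtain ⟨y, hy⟩ : ∃ y : A ⟶ T.obj₁⟦n⟧, φ = y ≫ (n.negOnePow • T.mor₁⟦n⟧') :=
    Triangle.coyoneda_exact₂ _ (Triangle.shift_distinguished T hT n) φ h'
  refine ⟨n.negOnePow • y, ?_⟩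
  rw [hy, Linear.comp_units_smul, Linear.units_smul_comp]

/-- Exactness of `Hom(A, -)` on a shifted distinguished triangle, at the third object. -/
lemma coyoneda_exact₃_shift (T : Triangle D) (hT : T ∈ distTriang D) {A : D} (n : ℤ)
    (φ : A ⟶ T.obj₃⟦n⟧) (h : φ ≫ T.mor₃⟦n⟧' = 0) : ∃ y : A ⟶ T.obj₂⟦n⟧, φ = y ≫ T.mor₂⟦n⟧' :=
  coyoneda_exact₂_shift T.rotate (rot_of_distTriang _ hT) n φ h

/-- `Hom(A, -)` with a shift: a morphism inducing injections and surjections in the relevant shifts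
has a cone receiving no map. -/
lemma eq_zero_of_bijective (T : Triangle D) (hT : T ∈ distTriang D) {A : D}
    (h : ∀ n : ℤ, Function.Bijective (fun g : A ⟶ T.obj₁⟦n⟧ => g ≫ T.mor₁⟦n⟧')) (n : ℤ)
    (φ : A ⟶ T.obj₃⟦n⟧) : φ = 0 := by
  have key : φ ≫ T.mor₃⟦n⟧' = 0 := by
    have h1 : (φ ≫ T.mor₃⟦n⟧') ≫ (shiftFunctorAdd D 1 n).inv.app T.obj₁ = 0 := by
      apply (h (1 + n)).1
      change ((φ ≫ T.mor₃⟦n⟧') ≫ (shiftFunctorAdd D 1 n).inv.app T.obj₁) ≫ T.mor₁⟦1 + n⟧' =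
        0 ≫ T.mor₁⟦1 + n⟧'
      rw [Category.assoc, ← (shiftFunctorAdd D 1 n).inv.naturality T.mor₁, zero_comp]
      change (φ ≫ T.mor₃⟦n⟧') ≫ (T.mor₁⟦(1 : ℤ)⟧')⟦n⟧' ≫ (shiftFunctorAdd D 1 n).inv.app T.obj₂ = 0
      rw [Category.assoc, ← Functor.map_comp_assoc, comp_distTriang_mor_zero₃₁ _ hT,
        Functor.map_zero, zero_comp, comp_zero]
    rw [← cancel_mono ((shiftFunctorAdd D 1 n).inv.app T.obj₁), h1, zero_comp]
  obtain ⟨y, rfl⟩ := coyoneda_exact₃_shift T hT n φ key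
  obtain ⟨x, hx⟩ := (h n).2 y
  have hx' : x ≫ T.mor₁⟦n⟧' = y := hx
  rw [← hx', Category.assoc, ← Functor.map_comp, comp_distTriang_mor_zero₁₂ _ hT,
    Functor.map_zero, comp_zero]

end K236.TriShift
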