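import Groth.Agent.SiteCmp.K578.AdjDev
import Groth.Agent.Cohder.FourLemma
import Mathlib.Algebra.Homology.DerivedCategory.SingleTriangle

/-!
# The lemmas on way-out functors
-/

set_option autoImplicit false

universe w w' v v' u u'

open CategoryTheory CategoryTheory.Limits Pretriangulated Triangulated DerivedCategory
open K578.AdjDev

namespace K236.WayOut

variable {A : Type u} [Category.{v} A] [Abelian A] [HasDerivedCategory.{w} A]
  {B : Type u'} [Category.{v'} B] [Abelian B] [HasDerivedCategory.{w'} B]

/-- Way-out right functors. -/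
def WOR (F : DerivedCategory A ⥤ DerivedCategory B) : Prop :=
  ∀ n₁ : ℤ, ∃ n₂ : ℤ, ∀ Y : DerivedCategory A, Y.IsGE n₂ → (F.obj Y).IsGE n₁

/-- Way-out left functors. -/
def WOL (F : DerivedCategory A ⥤ DerivedCategory B) : Prop :=
  ∀ n₁ : ℤ, ∃ n₂ : ℤ, ∀ Y : DerivedCategory A, Y.IsLE n₂ → (F.obj Y).IsLE n₁

section

variable {F G : DerivedCategory A ⥤ DerivedCategory B}
  [F.CommShift ℤ] [G.CommShift ℤ] [F.IsTriangulated] [G.IsTriangulated] (η : F ⟶ G)
  [NatTrans.CommShift η ℤ]

omit [NatTrans.CommShift η ℤ] in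
/-- `H^i(η)` is an isomorphism on `T.obj₂` if it is on `T.obj₁` and `F`, `G` of `T.obj₃` have no cohomology in
degrees `i-1, i`. -/
lemma isIso_homology_app₂ (T : Triangle (DerivedCategory A)) (hT : T ∈ distTriang _) (i : ℤ)
    (hF : (F.obj T.obj₃).IsGE (i + 1)) (hG : (G.obj T.obj₃).IsGE (i + 1))
    (h₁ : IsIso (η.app T.obj₁)) :
    IsIso ((homologyFunctor B i).map (η.app T.obj₂)) := by
  have a₁ := isIso_homology_map_mor₁ F T hT i
    (isZero_of_isGE _ (i + 1) i (by lia)) (isZero_of_isGE _ (i + 1) (i - 1) (by lia))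
  have a₂ := isIso_homology_map_mor₁ G T hT i
    (isZero_of_isGE _ (i + 1) i (by lia)) (isZero_of_isGE _ (i + 1) (i - 1) (by lia))
  have h := congr_arg (homologyFunctor B i).map (η.naturality T.mor₁)
  rw [Functor.map_comp, Functor.map_comp] at h
  have h2 : IsIso ((homologyFunctor B i).map (F.map T.mor₁) ≫
      (homologyFunctor B i).map (η.app T.obj₂)) := by
    rw [h]; infer_instance
  exact IsIso.of_isIso_comp_left ((homologyFunctor B i).map (F.map T.mor₁)) _

omit [NatTrans.CommShift η ℤ] in
/-- the same with the roles of `T.obj₁` and `T.obj₃` exchanged. -/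
lemma isIso_homology_app₂' (T : Triangle (DerivedCategory A)) (hT : T ∈ distTriang _) (i : ℤ)
    (hF : (F.obj T.obj₁).IsLE (i - 1)) (hG : (G.obj T.obj₁).IsLE (i - 1))
    (h₃ : IsIso (η.app T.obj₃)) :
    IsIso ((homologyFunctor B i).map (η.app T.obj₂)) := by
  have a₁ := isIso_homology_map_mor₂ F T hT i
    (isZero_of_isLE _ (i - 1) i (by lia)) (isZero_of_isLE _ (i - 1) (i + 1) (by lia))
  have a₂ := isIso_homology_map_mor₂ G T hT i
    (isZero_of_isLE _ (i - 1) i (by lia)) (isZero_of_isLE _ (i - 1) (i + 1) (by lia))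
  have h := congr_arg (homologyFunctor B i).map (η.naturality T.mor₂)
  rw [Functor.map_comp, Functor.map_comp] at h
  have h2 : IsIso ((homologyFunctor B i).map (η.app T.obj₂) ≫
      (homologyFunctor B i).map (G.map T.mor₂)) := by
    rw [← h]; infer_instance
  exact IsIso.of_isIso_comp_right _ ((homologyFunctor B i).map (G.map T.mor₂))

/-- Dévissage for way-out right functors, bounded below case. -/
theorem isIso_app_of_isGE (hF : WOR F) (hG : WOR G) (X : DerivedCategory A) (a : ℤ)
    [hX : X.IsGE a]
    (h : ∀ q : ℤ, IsIso (η.app ((singleFunctor A 0).obj ((homologyFunctor A q).obj X)))) :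
    IsIso (η.app X) := by
  rw [DerivedCategory.isIso_iff]
  intro i
  obtain ⟨m, hm⟩ := hF (i + 1)
  obtain ⟨m', hm'⟩ := hG (i + 1)
  obtain ⟨T, hT, rfl, h1, h3, hi1, hi3⟩ :=
    Groth.Agent.LoccohB.Devissage.exists_trunc X (max m m') (max m m' + 1) rfl
  have h3m : T.obj₃.IsGE m := TStructure.t.isGE_of_ge T.obj₃ m (max m m' + 1)
    ((le_max_left m m').trans (by lia))
  have h3m' : T.obj₃.IsGE m' := TStructure.t.isGE_of_ge T.obj₃ m' (max m m' + 1)
    ((le_max_right m m').trans (by lia))
  refine isIso_homology_app₂ η T hT i (hm _ h3m) (hm' _ h3m') ?_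
  have hGE : T.obj₁.IsGE a := by
    rw [isGE_iff]
    intro j hj
    by_cases hj' : j ≤ max m m'
    · have := hi1 j hj'
      exact (isZero_of_isGE _ a j hj).of_iso (asIso ((homologyFunctor A j).map T.mor₁))
    · exact isZero_of_isLE _ (max m m') j (by lia)
  refine isIso_app_of_bounded η T.obj₁ a (max m m') (fun q => ?_)
  by_cases hq : q ≤ max m m'
  · have := hi1 q hq
    exact (isoProp η).prop_of_iso ((singleFunctor A 0).mapIso
      (asIso ((homologyFunctor A q).map T.mor₁)).symm) (h q)
  · exact isoProp_of_isZero η _ ((singleFunctor A 0).map_isZero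
      (isZero_of_isLE _ (max m m') q (by lia)))

/-- Dévissage for functors which are way-out in both directions. -/
theorem isIso_app_of_both (hF : WOR F) (hG : WOR G) (hF' : WOL F) (hG' : WOL G)
    (X : DerivedCategory A)
    (h : ∀ q : ℤ, IsIso (η.app ((singleFunctor A 0).obj ((homologyFunctor A q).obj X)))) :
    IsIso (η.app X) := by
  rw [DerivedCategory.isIso_iff]
  intro i
  obtain ⟨m, hm⟩ := hF' (i - 1)
  obtain ⟨m', hm'⟩ := hG' (i - 1)
  obtain ⟨T, hT, rfl, h1, h3, hi1, hi3⟩ :=
    Groth.Agent.LoccohB.Devissage.exists_trunc X (min m m') (min m m' + 1) rfl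
  have h1m : T.obj₁.IsLE m := TStructure.t.isLE_of_le T.obj₁ (min m m') m (min_le_left m m')
  have h1m' : T.obj₁.IsLE m' := TStructure.t.isLE_of_le T.obj₁ (min m m') m' (min_le_right m m')
  refine isIso_homology_app₂' η T hT i (hm _ h1m) (hm' _ h1m') ?_
  refine isIso_app_of_isGE η hF hG T.obj₃ (min m m' + 1) (fun q => ?_)
  by_cases hq : min m m' + 1 ≤ q
  · have := hi3 q hq
    exact (isoProp η).prop_of_iso ((singleFunctor A 0).mapIso
      (asIso ((homologyFunctor A q).map T.mor₂))) (h q)
  · exact isoProp_of_isZero η _ ((singleFunctor A 0).map_isZero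
      (isZero_of_isGE _ (min m m' + 1) q (by lia)))

/-- A natural transformation compatible with the shifts between triangulated functors induces
morphisms of triangles. -/
@[simps]
def triangleMap (T : Triangle (DerivedCategory A)) : F.mapTriangle.obj T ⟶ G.mapTriangle.obj T where
  hom₁ := η.app T.obj₁
  hom₂ := η.app T.obj₂
  hom₃ := η.app T.obj₃
  comm₁ := η.naturality T.mor₁
  comm₂ := η.naturality T.mor₂
  comm₃ := by
    change (F.map T.mor₃ ≫ (F.commShiftIso (1 : ℤ)).hom.app T.obj₁) ≫ (η.app T.obj₁)⟦(1 : ℤ)⟧' =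
      η.app T.obj₃ ≫ G.map T.mor₃ ≫ (G.commShiftIso (1 : ℤ)).hom.app T.obj₁
    rw [Category.assoc, NatTrans.shift_app_comm η (1 : ℤ) T.obj₁, ← Category.assoc,
      ← Category.assoc, η.naturality T.mor₃]

omit [F.IsTriangulated] in
/-- A uniform bound for the cohomology of a way-out right functor on objects in degree zero. -/
lemma exists_bound (hF : WOR F) : ∃ c : ℤ, ∀ X : A, (F.obj ((singleFunctor A 0).obj X)).IsGE c := by
  obtain ⟨n, hn⟩ := hF 0
  refine ⟨-n, fun X => ?_⟩
  have h1 : (((singleFunctor A 0).obj X)⟦-n⟧).IsGE n :=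
    TStructure.t.isGE_shift _ 0 (-n) n (by lia)
  have h2 := hn _ h1
  have h3 : ((F.obj ((singleFunctor A 0).obj X))⟦-n⟧).IsGE 0 := by
    have h2' : ((shiftFunctor (DerivedCategory A) (-n) ⋙ F).obj ((singleFunctor A 0).obj X)).IsGE 0 := h2
    exact TStructure.t.isGE_of_iso ((F.commShiftIso (-n)).app ((singleFunctor A 0).obj X)) 0
  exact TStructure.t.isGE_of_shift _ (-n) (-n) 0 (by lia)

/-- Four lemma, monomorphism on the first vertex. -/
lemma mono_homology_app₁ (T : Triangle (DerivedCategory A)) (hT : T ∈ distTriang _) (i₀ i : ℤ)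
    (hi : i₀ + 1 = i) (h₂ : Epi ((homologyFunctor B i₀).map (η.app T.obj₂)))
    (h₃ : Mono ((homologyFunctor B i₀).map (η.app T.obj₃)))
    (h₂' : Mono ((homologyFunctor B i).map (η.app T.obj₂))) :
    Mono ((homologyFunctor B i).map (η.app T.obj₁)) :=
  Groth.Agent.Cohder.FourLemma.four_mono
    (f₁ := (homologyFunctor B i₀).map (F.mapTriangle.obj T).mor₂)
    (w₁₂ := HomologySequence.comp_δ _ (F.map_distinguished T hT) i₀ i hi)
    (HomologySequence.exact₁ _ (F.map_distinguished T hT) i₀ i hi)
    (HomologySequence.exact₃ _ (G.map_distinguished T hT) i₀ i hi)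
    ((homologyFunctor B i₀).map (η.app T.obj₂)) ((homologyFunctor B i₀).map (η.app T.obj₃))
    ((homologyFunctor B i).map (η.app T.obj₁)) ((homologyFunctor B i).map (η.app T.obj₂))
    (by
      have := (triangleMap η T).comm₂
      exact ((homologyFunctor B i₀).map_comp _ _).symm.trans
        ((congr_arg (homologyFunctor B i₀).map this).trans ((homologyFunctor B i₀).map_comp _ _)))
    ((homologyFunctor B 0).homologySequenceδ_naturality _ _ (triangleMap η T) i₀ i hi).symm
    (by
      have := (triangleMap η T).comm₁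
      exact ((homologyFunctor B i).map_comp _ _).symm.trans
        ((congr_arg (homologyFunctor B i).map this).trans ((homologyFunctor B i).map_comp _ _)))
    h₂ h₃ h₂'

/-- Four lemma, epimorphism on the first vertex. -/
lemma epi_homology_app₁ (T : Triangle (DerivedCategory A)) (hT : T ∈ distTriang _) (i₀ i : ℤ)
    (hi : i₀ + 1 = i) (h₃ : Epi ((homologyFunctor B i₀).map (η.app T.obj₃)))
    (h₂ : Epi ((homologyFunctor B i).map (η.app T.obj₂)))
    (h₃' : Mono ((homologyFunctor B i).map (η.app T.obj₃))) :
    Epi ((homologyFunctor B i).map (η.app T.obj₁)) :=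
  Groth.Agent.Cohder.FourLemma.four_epi
    (f₁ := HomologySequence.δ (F.mapTriangle.obj T) i₀ i hi)
    (g₁ := HomologySequence.δ (G.mapTriangle.obj T) i₀ i hi)
    (v₂₃ := (homologyFunctor B 0).homologySequence_comp _ (G.map_distinguished T hT) i)
    (HomologySequence.exact₂ _ (F.map_distinguished T hT) i)
    (HomologySequence.exact₁ _ (G.map_distinguished T hT) i₀ i hi)
    ((homologyFunctor B i₀).map (η.app T.obj₃)) ((homologyFunctor B i).map (η.app T.obj₁))
    ((homologyFunctor B i).map (η.app T.obj₂)) ((homologyFunctor B i).map (η.app T.obj₃))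
    ((homologyFunctor B 0).homologySequenceδ_naturality _ _ (triangleMap η T) i₀ i hi).symm
    (by
      have := (triangleMap η T).comm₁
      exact ((homologyFunctor B i).map_comp _ _).symm.trans
        ((congr_arg (homologyFunctor B i).map this).trans ((homologyFunctor B i).map_comp _ _)))
    (by
      have := (triangleMap η T).comm₂
      exact ((homologyFunctor B i).map_comp _ _).symm.trans
        ((congr_arg (homologyFunctor B i).map this).trans ((homologyFunctor B i).map_comp _ _)))
    h₃ h₂ h₃'

/-- If every object embeds into an object on which `η` is an isomorphism, then `η` is an isomorphism on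
all objects in degree zero. -/
theorem isIso_app_single (hF : WOR F) (hG : WOR G) (P : ObjectProperty A)
    (hP : ∀ X : A, ∃ (Y : A) (i : X ⟶ Y), P Y ∧ Mono i)
    (hη : ∀ X : A, P X → IsIso (η.app ((singleFunctor A 0).obj X))) (X : A) :
    IsIso (η.app ((singleFunctor A 0).obj X)) := by
  obtain ⟨c, hc⟩ := exists_bound hF
  obtain ⟨c', hc'⟩ := exists_bound hG
  have hc₁ : min c c' ≤ c := min_le_left c c'
  have hc₂ : min c c' ≤ c' := min_le_right c c'
  generalize min c c' = d at hc₁ hc₂
  have key : ∀ (n : ℕ) (X : A) (i : ℤ), i < d + n →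
      IsIso ((homologyFunctor B i).map (η.app ((singleFunctor A 0).obj X))) := by
    intro n
    induction n with
    | zero =>
      intro X i hi
      have h1 := hc X
      have h2 := hc' X
      have z1 : IsZero ((homologyFunctor B i).obj (F.obj ((singleFunctor A 0).obj X))) :=
        isZero_of_isGE _ c i (by lia)
      have z2 : IsZero ((homologyFunctor B i).obj (G.obj ((singleFunctor A 0).obj X))) :=
        isZero_of_isGE _ c' i (by lia)
      exact ⟨0, z1.eq_of_src _ _, z2.eq_of_tgt _ _⟩
    | succ n ih =>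
      -- an embedding and its distinguished triangle
      have htri : ∀ X : A, ∃ T ∈ distTriang (DerivedCategory A),
          T.obj₁ = (singleFunctor A 0).obj X ∧ (∃ Y, P Y ∧ T.obj₂ = (singleFunctor A 0).obj Y) ∧
          ∃ Z, T.obj₃ = (singleFunctor A 0).obj Z := by
        intro X
        obtain ⟨Y, j, hY, hj⟩ := hP X
        have hS : (ShortComplex.mk j (cokernel.π j) (by simp)).ShortExact :=
          { exact := ShortComplex.exact_cokernel j
            mono_f := hj
            epi_g := inferInstance }
        exact ⟨_, hS.singleTriangle_distinguished, rfl, ⟨Y, hY, rfl⟩, cokernel j, rfl⟩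
      have hiso : ∀ (T : Triangle (DerivedCategory A)), 
          (∃ Y, P Y ∧ T.obj₂ = (singleFunctor A 0).obj Y) → IsIso (η.app T.obj₂) := by
        rintro T ⟨Y, hY, h⟩
        have := hη Y hY
        rw [h]
        infer_instance
      -- first, monomorphisms
      have hmono : ∀ (X : A) (i : ℤ), i < d + (n + 1 : ℕ) →
          Mono ((homologyFunctor B i).map (η.app ((singleFunctor A 0).obj X))) := by
        intro X i hi
        obtain ⟨T, hT, h1, h2, Z, h3⟩ := htri X
        have hi2 := hiso T h2
        have := ih Z (i - 1) (by push_cast at hi; lia)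
        rw [← h1]
        refine mono_homology_app₁ η T hT (i - 1) i (by lia) inferInstance ?_ inferInstance
        rw [h3]
        infer_instance
      intro X i hi
      have hm := hmono X i hi
      have he : Epi ((homologyFunctor B i).map (η.app ((singleFunctor A 0).obj X))) := by
        obtain ⟨T, hT, h1, h2, Z, h3⟩ := htri X
        have hi2 := hiso T h2
        have := ih Z (i - 1) (by push_cast at hi; lia)
        rw [← h1]
        refine epi_homology_app₁ η T hT (i - 1) i (by lia) ?_ inferInstance ?_
        · rw [h3]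
          infer_instance
        · rw [h3]
          exact hmono Z i hi
      exact isIso_of_mono_of_epi _
  rw [DerivedCategory.isIso_iff]
  intro i
  obtain ⟨n, hn⟩ : ∃ n : ℕ, i < d + n := ⟨(i - d + 1).toNat, by lia⟩
  exact key n X i hn

end

end K236.WayOut
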